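import Cfsg.Agent.GenA.Heptad.Good

/-!
The preimage of the span of the members of a Sylow 2-subgroup: its elements, their classes and
their numbers.
-/

set_option autoImplicit false
set_option linter.unusedSectionVars false

namespace Cfsg.Agent.GenA.Heptad

open Cfsg.Agent.ThreeTransp
open Cfsg.Agent.ThreeTransp.M22 (IsProd)
open Cfsg.Agent.ThreeTransp.Factor (nb)

universe u v

variable {C : Type u} [Group C] [Finite C] {X : Type v} [Group X] [Finite X] {p : C →* X}
  {z : C} {E : Set X} {L : Set C}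

/-- The chosen lifts of the members inside the Sylow subgroup. -/
def Lam (p : C →* X) (L : Set C) (T : Sylow 2 X) : Set C :=
  {x | x ∈ L ∧ p x ∈ (T : Subgroup X)}

/-- The preimage of the span. -/
def AA (p : C →* X) (E : Set X) (T : Sylow 2 X) : Subgroup C := (EE E T).comap p

/-- The products of two distinct lifts. -/
def Pair (p : C →* X) (L : Set C) (T : Sylow 2 X) : Set C :=
  {y | ∃ a ∈ Lam p L T, ∃ b ∈ Lam p L T, a ≠ b ∧ y = a * b}

/-- The products of three distinct lifts. -/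
def Triple (p : C →* X) (L : Set C) (T : Sylow 2 X) : Set C :=
  {y | ∃ a ∈ Lam p L T, ∃ b ∈ Lam p L T, ∃ c ∈ Lam p L T, a ≠ b ∧ a ≠ c ∧ b ≠ c ∧ y = a * b * c}

variable (hs : Setup p z E) (hL : Good p z E L) (T : Sylow 2 X)

include hs

theorem z_mem_AA : z ∈ AA p E T := by
  rw [AA, Subgroup.mem_comap, hs.one]; exact one_mem _

theorem z_mul_z_mul (x : C) : z * (z * x) = x := by rw [← mul_assoc, hs.sq, one_mul]

theorem p_z_mul (x : C) : p (z * x) = p x := by rw [map_mul, hs.one, one_mul]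

include hL

theorem lam_mem {x : C} (hx : x ∈ Lam p L T) : p x ∈ Om E T := ⟨hL.mem x hx.1, hx.2⟩

theorem lam_AA {x : C} (hx : x ∈ Lam p L T) : x ∈ AA p E T :=
  Subgroup.subset_closure (lam_mem hs hL T hx)

theorem lam_comm {x y : C} (hx : x ∈ Lam p L T) (hy : y ∈ Lam p L T) : Commute x y :=
  hs.commute (hL.mem x hx.1) (hL.mem y hy.1)
    (M22.Thompson.comm hs.hE T (lam_mem hs hL T hx) (lam_mem hs hL T hy))

theorem lam_sq {x : C} (hx : x ∈ Lam p L T) : x * x = 1 :=
  M22.DoubleCover.lift_sq hs.hE hs.hp hs.h22 p hs.surj z hs.sq hs.cen hs.ker (hL.mem x hx.1)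

theorem p_ne {x y : C} (hx : x ∈ Lam p L T) (hy : y ∈ Lam p L T) (h : x ≠ y) : p x ≠ p y :=
  fun e => h (hL.inj x hx.1 y hy.1 e)

theorem image_lam : p '' Lam p L T = Om E T := by
  refine Set.Subset.antisymm ?_ fun q hq => ?_
  · rintro _ ⟨x, hx, rfl⟩
    exact lam_mem hs hL T hx
  · obtain ⟨x, hx, rfl⟩ := hL.surj q hq.1
    exact ⟨x, ⟨hx, hq.2⟩, rfl⟩

theorem injOn_lam : Set.InjOn p (Lam p L T) := fun x hx y hy e => hL.inj x hx.1 y hy.1 e

theorem ncard_lam : (Lam p L T).ncard = 22 := by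
  rw [← (injOn_lam hs hL T).ncard_image, image_lam hs hL T]
  exact M22.Thompson.ncard_members hs.hE hs.hp hs.h22 T

theorem isProd_lam {x : C} (hx : x ∈ Lam p L T) : IsProd E 1 (p x) :=
  ⟨[p x], by simp, rfl, by simp [hL.mem x hx.1], by simp, by simp⟩

theorem isProd_pair {y : C} (hy : y ∈ Pair p L T) : IsProd E 2 (p y) := by
  obtain ⟨a, ha, b, hb, hab, rfl⟩ := hy
  refine ⟨[p a, p b], by simpa using p_ne hs hL T ha hb hab, rfl,
    by simp [hL.mem a ha.1, hL.mem b hb.1], ?_, by simp⟩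
  have c := (lam_comm hs hL T ha hb).map p
  simp [c, c.symm]

theorem isProd_triple {y : C} (hy : y ∈ Triple p L T) : IsProd E 3 (p y) := by
  obtain ⟨a, ha, b, hb, c, hc, hab, hac, hbc, rfl⟩ := hy
  refine ⟨[p a, p b, p c], by simp [p_ne hs hL T ha hb hab, p_ne hs hL T ha hc hac,
    p_ne hs hL T hb hc hbc], rfl, by simp [hL.mem a ha.1, hL.mem b hb.1, hL.mem c hc.1], ?_,
    by simp [mul_assoc]⟩
  have c1 := (lam_comm hs hL T ha hb).map p
  have c2 := (lam_comm hs hL T ha hc).map p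
  have c3 := (lam_comm hs hL T hb hc).map p
  simp [c1, c1.symm, c2, c2.symm, c3, c3.symm]

/-- Two products of different numbers of members differ. -/
theorem type_ne {m m' : ℕ} {q : X} (h : IsProd E m q) (h' : IsProd E m' q) (h1 : 1 ≤ m)
    (h3 : m ≤ 3) (h1' : 1 ≤ m') (h3' : m' ≤ 3) : m = m' :=
  M22.prod_number hs.hE hs.hp hs.h22 h1 h3 h1' h3' h h'

theorem type_ne_one {m : ℕ} {q : X} (h : IsProd E m q) (h1 : 1 ≤ m) (h3 : m ≤ 3) : q ≠ 1 :=
  fun e => by
    have := M22.orderOf_prod hs.hE hs.hp hs.h22 h1 h3 h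
    rw [e, orderOf_one] at this
    omega

theorem pair_AA {y : C} (hy : y ∈ Pair p L T) : y ∈ AA p E T := by
  obtain ⟨a, ha, b, hb, -, rfl⟩ := hy
  exact mul_mem (lam_AA hs hL T ha) (lam_AA hs hL T hb)

theorem triple_AA {y : C} (hy : y ∈ Triple p L T) : y ∈ AA p E T := by
  obtain ⟨a, ha, b, hb, c, hc, -, -, -, rfl⟩ := hy
  exact mul_mem (mul_mem (lam_AA hs hL T ha) (lam_AA hs hL T hb)) (lam_AA hs hL T hc)

/-- A triple product times the central involution is another triple product. -/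
theorem z_mul_triple {y : C} (hy : y ∈ Triple p L T) : z * y ∈ Triple p L T := by
  obtain ⟨a, ha, b, hb, c, hc, hab, hac, hbc, rfl⟩ := hy
  obtain ⟨x₀, y₀, w₀, hx₀, hy₀, hw₀, hnd, he, -⟩ := six_members hs.hE hs.hp hs.h22 T
    (lam_mem hs hL T ha) (lam_mem hs hL T hb) (lam_mem hs hL T hc) (p_ne hs hL T ha hb hab)
    (p_ne hs hL T ha hc hac) (p_ne hs hL T hb hc hbc)
  rw [← image_lam hs hL T] at hx₀ hy₀ hw₀
  obtain ⟨x, hx, rfl⟩ := hx₀
  obtain ⟨y, hy, rfl⟩ := hy₀
  obtain ⟨w, hw, rfl⟩ := hw₀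
  have hnd' : [a, b, c, x, y, w].Nodup := List.Nodup.of_map p hnd
  have hall : ∀ r ∈ [a, b, c, x, y, w], r ∈ Lam p L T := by
    simp only [List.mem_cons, List.not_mem_nil, or_false]
    rintro r (rfl | rfl | rfl | rfl | rfl | rfl) <;> assumption
  have sq3 : x * y * w * (x * y * w) = 1 := by
    rw [((lam_comm hs hL T hx hw).mul_left (lam_comm hs hL T hy hw)).symm.mul_mul_mul_comm,
      (lam_comm hs hL T hx hy).symm.mul_mul_mul_comm, lam_sq hs hL T hx, lam_sq hs hL T hy,
      lam_sq hs hL T hw, one_mul, one_mul]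
  have hp1 : p [a, b, c, x, y, w].prod = 1 := by
    simp only [List.prod_cons, List.prod_nil, mul_one, map_mul]
    calc p a * (p b * (p c * (p x * (p y * p w))))
        = p a * p b * p c * (p x * p y * p w) := by simp only [mul_assoc]
      _ = 1 := by rw [he, ← map_mul, ← map_mul, ← map_mul, sq3, map_one]
  have h := hL.hex _ hnd' rfl (fun r hr => (hall r hr).1)
    (fun r hr r' hr' => lam_comm hs hL T (hall r hr) (hall r' hr')) hp1
  simp only [List.prod_cons, List.prod_nil, mul_one] at h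
  simp only [List.nodup_cons, List.mem_cons, List.not_mem_nil, or_false, not_or, List.nodup_nil,
    and_true, not_false_eq_true] at hnd'
  refine ⟨x, hx, y, hy, w, hw, hnd'.2.2.2.1.1, hnd'.2.2.2.1.2, hnd'.2.2.2.2, ?_⟩
  rw [← h]
  calc a * (b * (c * (x * (y * w)))) * (a * b * c)
      = a * b * c * (x * y * w) * (a * b * c) := by simp only [mul_assoc]
    _ = x * y * w * (a * b * c * (a * b * c)) := by
      rw [show a * b * c * (x * y * w) = x * y * w * (a * b * c) from ?_, mul_assoc]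
      exact ((((lam_comm hs hL T ha hx).mul_right (lam_comm hs hL T ha hy)).mul_right
        (lam_comm hs hL T ha hw)).mul_left (((lam_comm hs hL T hb hx).mul_right
        (lam_comm hs hL T hb hy)).mul_right (lam_comm hs hL T hb hw))).mul_left
        (((lam_comm hs hL T hc hx).mul_right (lam_comm hs hL T hc hy)).mul_right
        (lam_comm hs hL T hc hw))
    _ = x * y * w := by
      rw [((lam_comm hs hL T ha hc).mul_left (lam_comm hs hL T hb hc)).symm.mul_mul_mul_comm,
        (lam_comm hs hL T ha hb).symm.mul_mul_mul_comm, lam_sq hs hL T ha, lam_sq hs hL T hb,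
        lam_sq hs hL T hc, one_mul, one_mul, mul_one]

/-- The elements of the preimage. -/
theorem cases_AA {y : C} (hy : y ∈ AA p E T) :
    y = 1 ∨ y = z ∨ y ∈ Lam p L T ∨ z * y ∈ Lam p L T ∨ y ∈ Pair p L T ∨ z * y ∈ Pair p L T ∨
      y ∈ Triple p L T := by
  obtain ⟨l, hn, h3, hlO, hl⟩ := span_cases hs.hE hs.hp hs.h22 T hy
  have lift : ∀ q ∈ l, ∃ x, x ∈ Lam p L T ∧ p x = q := fun q hq => by
    have h := hlO q hq
    rw [← image_lam hs hL T] at h
    exact h
  have split : ∀ w : C, p w = p y → y = w ∨ y = z * w := fun w hw => by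
    rcases hs.ker (w⁻¹ * y) (by rw [map_mul, map_inv, hw, inv_mul_cancel]) with h | h
    · exact Or.inl (inv_mul_eq_one.1 h).symm
    · exact Or.inr (by rw [(hs.cen w).eq]; exact inv_mul_eq_iff_eq_mul.1 h)
  match l, h3 with
  | [], _ =>
    rcases split 1 (by rw [map_one]; simpa using hl) with h | h
    · exact Or.inl h
    · exact Or.inr (Or.inl (h.trans (mul_one z)))
  | [q], _ =>
    obtain ⟨x, hx, rfl⟩ := lift q (by simp)
    rcases split x (by simpa using hl) with rfl | rfl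
    · exact Or.inr (Or.inr (Or.inl hx))
    · exact Or.inr (Or.inr (Or.inr (Or.inl (by rwa [z_mul_z_mul hs]))))
  | [q, q'], _ =>
    obtain ⟨a, ha, rfl⟩ := lift q (by simp)
    obtain ⟨b, hb, rfl⟩ := lift q' (by simp)
    have hab : a ≠ b := fun e => by simp [e] at hn
    rcases split (a * b) (by simpa [map_mul] using hl) with rfl | rfl
    · exact Or.inr (Or.inr (Or.inr (Or.inr (Or.inl ⟨a, ha, b, hb, hab, rfl⟩))))
    · refine Or.inr (Or.inr (Or.inr (Or.inr (Or.inr (Or.inl ?_)))))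
      rw [z_mul_z_mul hs]
      exact ⟨a, ha, b, hb, hab, rfl⟩
  | [q, q', q''], _ =>
    obtain ⟨a, ha, rfl⟩ := lift q (by simp)
    obtain ⟨b, hb, rfl⟩ := lift q' (by simp)
    obtain ⟨c, hc, rfl⟩ := lift q'' (by simp)
    have h : a * b * c ∈ Triple p L T := ⟨a, ha, b, hb, c, hc, fun e => by simp [e] at hn,
      fun e => by simp [e] at hn, fun e => by simp [e] at hn, rfl⟩
    refine Or.inr (Or.inr (Or.inr (Or.inr (Or.inr (Or.inr ?_)))))
    rcases split (a * b * c) (by simpa [map_mul, mul_assoc] using hl) with rfl | rfl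
    exacts [h, z_mul_triple hs hL T h]
  | _ :: _ :: _ :: _ :: _, h => simp only [List.length_cons] at h; omega

theorem conj_lam {x y : C} (hx : x ∈ Lam p L T) (hy : y ∈ Lam p L T) :
    ∃ c : C, c * x * c⁻¹ = y := by
  obtain ⟨g, hg⟩ := hs.hp.1 _ (hL.mem x hx.1) _ (hL.mem y hy.1)
  obtain ⟨c, rfl⟩ := hs.surj g
  exact ⟨c, hL.inj _ (hL.conj c x hx.1) y hy.1 (by rw [map_mul, map_mul, map_inv, hg])⟩

theorem conj_pair {y y' : C} (hy : y ∈ Pair p L T) (hy' : y' ∈ Pair p L T) :
    ∃ c : C, c * y * c⁻¹ = y' := by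
  obtain ⟨a, ha, b, hb, hab, rfl⟩ := hy
  obtain ⟨a', ha', b', hb', hab', rfl⟩ := hy'
  obtain ⟨g, h1, h2⟩ := M22.pair_trans hs.hE hs.hp hs.h22 (hL.mem a ha.1)
    ⟨hL.mem b hb.1, (p_ne hs hL T ha hb hab).symm, (lam_comm hs hL T ha hb).map p⟩
    (hL.mem a' ha'.1)
    ⟨hL.mem b' hb'.1, (p_ne hs hL T ha' hb' hab').symm, (lam_comm hs hL T ha' hb').map p⟩
  obtain ⟨c, rfl⟩ := hs.surj g
  refine ⟨c, ?_⟩
  rw [← hL.inj _ (hL.conj c a ha.1) a' ha'.1 (by rw [map_mul, map_mul, map_inv, h1]),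
    ← hL.inj _ (hL.conj c b hb.1) b' hb'.1 (by rw [map_mul, map_mul, map_inv, h2])]
  group

theorem conj_triple {y y' : C} (hy : y ∈ Triple p L T) (hy' : y' ∈ Triple p L T) :
    ∃ c : C, c * y * c⁻¹ = y' := by
  obtain ⟨a, ha, b, hb, c, hc, hab, hac, hbc, rfl⟩ := hy
  obtain ⟨a', ha', b', hb', c', hc', hab', hac', hbc', rfl⟩ := hy'
  have mk : ∀ {s t : C}, s ∈ Lam p L T → t ∈ Lam p L T → s ≠ t → p t ∈ nb E (p s) :=
    fun hs' ht h => ⟨hL.mem _ ht.1, (p_ne hs hL T hs' ht h).symm,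
      (lam_comm hs hL T hs' ht).map p⟩
  obtain ⟨g, h1, h2, h3⟩ := M22.triple_trans hs.hE hs.hp hs.h22 (hL.mem a ha.1) (mk ha hb hab)
    ⟨mk ha hc hac, mk hb hc hbc⟩ (hL.mem a' ha'.1) (mk ha' hb' hab')
    ⟨mk ha' hc' hac', mk hb' hc' hbc'⟩
  obtain ⟨g, rfl⟩ := hs.surj g
  refine ⟨g, ?_⟩
  rw [← hL.inj _ (hL.conj g a ha.1) a' ha'.1 (by rw [map_mul, map_mul, map_inv, h1]),
    ← hL.inj _ (hL.conj g b hb.1) b' hb'.1 (by rw [map_mul, map_mul, map_inv, h2]),
    ← hL.inj _ (hL.conj g c hc.1) c' hc'.1 (by rw [map_mul, map_mul, map_inv, h3])]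
  group

/-- The products of two lifts are squares. -/
theorem pair_sq {y : C} (hy : y ∈ Pair p L T) : ∃ w : C, w * w = y := by
  obtain ⟨a, ha, b, hb, hab, rfl⟩ := hy
  -- a member commuting with neither
  have hE := hs.hE
  obtain ⟨u, hu⟩ : (nb E (p a) ∩ nb E (p b)).Nonempty :=
    Set.nonempty_of_ncard_ne_zero (by
      rw [M22.ncard_nb_inter hE hs.hp hs.h22 (hL.mem a ha.1)
        ⟨hL.mem b hb.1, (p_ne hs hL T ha hb hab).symm, (lam_comm hs hL T ha hb).map p⟩]
      norm_num)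
  obtain ⟨v, hv⟩ : (nb E (p a) ∩ nb E (p b) ∩ nb E u).Nonempty :=
    Set.nonempty_of_ncard_ne_zero (by
      rw [M22.ncard_nb_three hE hs.hp hs.h22 (hL.mem a ha.1)
        ⟨hL.mem b hb.1, (p_ne hs hL T ha hb hab).symm, (lam_comm hs hL T ha hb).map p⟩
        hu.1 hu.2.2.1.symm hu.2.2.2]
      norm_num)
  obtain ⟨e₀, he₀, h1, h2⟩ := M22.exists_far hE hs.hp hs.h22 hu.1.1
    (b := v) ⟨hv.1.1.1, hv.2.2.1, hv.2.2.2⟩
    (p := p a) ⟨⟨hL.mem a ha.1, hu.1.2.1.symm, hu.1.2.2.symm⟩,
      ⟨hL.mem a ha.1, hv.1.1.2.1.symm, hv.1.1.2.2.symm⟩⟩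
    (q := p b) ⟨⟨hL.mem b hb.1, hu.2.2.1.symm, hu.2.2.2.symm⟩,
      ⟨hL.mem b hb.1, hv.1.2.2.1.symm, hv.1.2.2.2.symm⟩⟩
  obtain ⟨e, he, rfl⟩ := hL.surj e₀ he₀.1.1
  have be1 := (hL.braid a ha.1 e he).resolve_left fun h => h1 (h.map p).symm
  have be2 := (hL.braid b hb.1 e he).resolve_left fun h => h2 (h.map p).symm
  have e2 : e * e = 1 :=
    M22.DoubleCover.lift_sq hs.hE hs.hp hs.h22 p hs.surj z hs.sq hs.cen hs.ker (hL.mem e he)
  refine ⟨e * (a * e * b) * e, ?_⟩
  have hsq : a * e * b * (a * e * b) = e * (a * b) * e := by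
    calc a * e * b * (a * e * b) = a * e * (b * a) * e * b := by simp only [mul_assoc]
      _ = a * e * a * (b * e * b) := by rw [← (lam_comm hs hL T ha hb).eq]; simp only [mul_assoc]
      _ = e * a * e * (e * b * e) := by rw [be1, be2]
      _ = e * a * (e * e) * b * e := by simp only [mul_assoc]
      _ = _ := by rw [e2, mul_one, mul_assoc e a b]
  calc e * (a * e * b) * e * (e * (a * e * b) * e)
      = e * (a * e * b) * (e * e) * (a * e * b) * e := by simp only [mul_assoc]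
    _ = e * (a * e * b * (a * e * b)) * e := by rw [e2, mul_one]; simp only [mul_assoc]
    _ = e * e * (a * b) * (e * e) := by rw [hsq]; simp only [mul_assoc]
    _ = a * b := by rw [e2, one_mul, mul_one]

theorem card_C : Nat.card C = 2 * Nat.card X := by
  have hk : (p.ker : Set C) = {1, z} := by
    ext c
    constructor
    · exact fun h => hs.ker c h
    · rintro (rfl | rfl)
      exacts [one_mem _, hs.one]
  rw [Subgroup.card_eq_card_quotient_mul_card_subgroup p.ker,
    Nat.card_congr (QuotientGroup.quotientKerEquivOfSurjective p hs.surj).toEquiv,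
    ← SetLike.coe_sort_coe, Nat.card_coe_set_eq, hk, Set.ncard_pair hs.ne.symm, mul_comm]

theorem card_AA : Nat.card ↥(AA p E T) = 2 ^ 11 := by
  have h1 : (AA p E T).index = (EE E T).index := (EE E T).index_comap_of_surjective hs.surj
  have h2 := (AA p E T).card_mul_index
  rw [h1, card_C hs hL, ← (EE E T).card_mul_index, ← mul_assoc] at h2
  rw [Nat.eq_of_mul_eq_mul_right (Nat.pos_of_ne_zero Subgroup.index_ne_zero_of_finite) h2,
    card_EE hs.hE hs.hp hs.h22 T]
  norm_num

/-- The preimage is elementary abelian. -/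
theorem elementary_AA : Cfsg.IsElementaryAbelian 2 (AA p E T) := by
  set S := insert z (Lam p L T) with hS
  have hcm : ∀ x ∈ S, ∀ y ∈ S, Commute x y := by
    rintro x (rfl | hx) y hy
    · exact hs.cen y
    · rcases hy with rfl | hy
      exacts [(hs.cen x).symm, lam_comm hs hL T hx hy]
  have hle : Subgroup.closure S ≤ Subgroup.centralizer (Subgroup.closure S : Set C) := by
    rw [Subgroup.centralizer_closure, Subgroup.closure_le]
    exact fun x hx => Subgroup.mem_centralizer_iff.2 fun y hy => (hcm y hy x hx).eq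
  have hcomm : ∀ x ∈ Subgroup.closure S, ∀ y ∈ Subgroup.closure S, x * y = y * x :=
    fun x hx y hy => (Subgroup.mem_centralizer_iff.1 (hle hx) y hy).symm
  have hsq : ∀ x ∈ Subgroup.closure S, x * x = 1 := by
    intro x hx
    induction hx using Subgroup.closure_induction with
    | mem y hy =>
      rcases hy with rfl | hy
      exacts [hs.sq, lam_sq hs hL T hy]
    | one => exact mul_one 1
    | mul a b ha hb h1 h2 =>
      rw [(show Commute b a from hcomm b hb a ha).mul_mul_mul_comm, h1, h2, one_mul]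
    | inv a _ h => rw [← mul_inv_rev, h, inv_one]
  have hsub : AA p E T ≤ Subgroup.closure S := by
    intro y hy
    have hz : z ∈ Subgroup.closure S := Subgroup.subset_closure (Or.inl rfl)
    have hl : ∀ {x}, x ∈ Lam p L T → x ∈ Subgroup.closure S :=
      fun hx => Subgroup.subset_closure (Or.inr hx)
    have hzz : ∀ w, z * w ∈ Subgroup.closure S → w ∈ Subgroup.closure S := fun w hw =>
      (Subgroup.mul_mem_cancel_left _ hz).1 hw
    have hpair : ∀ {w}, w ∈ Pair p L T → w ∈ Subgroup.closure S := by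
      rintro _ ⟨a, ha, b, hb, -, rfl⟩
      exact mul_mem (hl ha) (hl hb)
    rcases cases_AA hs hL T hy with rfl | rfl | h | h | h | h | ⟨a, ha, b, hb, c, hc, -, -, -, rfl⟩
    exacts [one_mem _, hz, hl h, hzz y (hl h), hpair h, hzz y (hpair h),
      mul_mem (mul_mem (hl ha) (hl hb)) (hl hc)]
  exact PLocal.ThompsonSubgroup.isElementaryAbelian_iff.2 ⟨fun x hx y hy => hcomm x (hsub hx) y (hsub hy),
    fun x hx => (pow_two x).trans (hsq x (hsub hx))⟩

theorem ncard_pairs : (Pair p L T).ncard = 231 := by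
  classical
  haveI := Fintype.ofFinite C
  set W := (Lam p L T).toFinset with hW
  have hWc : W.card = 22 := by rw [hW, ← Set.ncard_eq_toFinset_card', ncard_lam hs hL T]
  have hoff : W.offDiag.card = 462 := by rw [Finset.offDiag_card, hWc]
  have himg : Pair p L T = ↑(W.offDiag.image fun q : C × C => q.1 * q.2) := by
    ext y
    simp only [Pair, Set.mem_setOf_eq, Finset.coe_image, Set.mem_image, Finset.mem_coe,
      Finset.mem_offDiag, hW, Set.mem_toFinset, Prod.exists]
    constructor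
    · rintro ⟨a, ha, b, hb, hab, rfl⟩
      exact ⟨a, b, ⟨ha, hb, hab⟩, rfl⟩
    · rintro ⟨a, b, ⟨ha, hb, hab⟩, rfl⟩
      exact ⟨a, ha, b, hb, hab, rfl⟩
  rw [himg, Set.ncard_coe_finset]
  have hfib : ∀ y ∈ W.offDiag.image (fun q : C × C => q.1 * q.2),
      (W.offDiag.filter fun q : C × C => q.1 * q.2 = y).card = 2 := by
    intro y hy
    obtain ⟨⟨a, b⟩, hab, rfl⟩ := Finset.mem_image.1 hy
    rw [Finset.mem_offDiag, hW, Set.mem_toFinset, Set.mem_toFinset] at hab
    obtain ⟨ha, hb, hne⟩ := hab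
    rw [Finset.card_eq_two]
    refine ⟨(a, b), (b, a), fun e => hne (congrArg Prod.fst e), ?_⟩
    ext ⟨u, v⟩
    simp only [Finset.mem_filter, Finset.mem_offDiag, hW, Set.mem_toFinset, Finset.mem_insert,
      Finset.mem_singleton, Prod.mk.injEq]
    constructor
    · rintro ⟨⟨hu, hv, huv⟩, he⟩
      rcases Factor.pair_unique hs.hE ((Factor.M22_core hs.hE hs.h22).2.1.mono (by norm_num))
        (hL.mem a ha.1) (hL.mem b hb.1) (hL.mem u hu.1) (hL.mem v hv.1)
        (p_ne hs hL T ha hb hne) (p_ne hs hL T hu hv huv) ((lam_comm hs hL T ha hb).map p)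
        ((lam_comm hs hL T hu hv).map p) (by rw [← map_mul, ← map_mul, he]) with ⟨h1, h2⟩ | ⟨h1, h2⟩
      · exact Or.inl ⟨hL.inj u hu.1 a ha.1 h1, hL.inj v hv.1 b hb.1 h2⟩
      · exact Or.inr ⟨hL.inj u hu.1 b hb.1 h1, hL.inj v hv.1 a ha.1 h2⟩
    · rintro (⟨rfl, rfl⟩ | ⟨rfl, rfl⟩)
      exacts [⟨⟨ha, hb, hne⟩, rfl⟩, ⟨⟨hb, ha, hne.symm⟩, (lam_comm hs hL T hb ha).eq⟩]
  have h := Finset.card_eq_sum_card_image (fun q : C × C => q.1 * q.2) W.offDiag
  rw [Finset.sum_congr rfl hfib, Finset.sum_const, smul_eq_mul, hoff] at h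
  omega

theorem not_lam_z {x : C} (hx : x ∈ Lam p L T) : z * x ∉ Lam p L T := fun h => by
  have := hL.inj _ h.1 x hx.1 (p_z_mul hs x)
  exact hs.ne (mul_eq_right.1 this)

theorem not_pair_z {y : C} (hy : y ∈ Pair p L T) : z * y ∉ Pair p L T := fun hy' => by
  obtain ⟨a, ha, b, hb, hab, rfl⟩ := hy
  obtain ⟨u, hu, v, hv, huv, he⟩ := hy'
  rcases Factor.pair_unique hs.hE ((Factor.M22_core hs.hE hs.h22).2.1.mono (by norm_num))
    (hL.mem a ha.1) (hL.mem b hb.1) (hL.mem u hu.1) (hL.mem v hv.1)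
    (p_ne hs hL T ha hb hab) (p_ne hs hL T hu hv huv) ((lam_comm hs hL T ha hb).map p)
    ((lam_comm hs hL T hu hv).map p) (by rw [← map_mul, ← map_mul, ← he, p_z_mul hs])
    with ⟨h1, h2⟩ | ⟨h1, h2⟩
  · rw [hL.inj u hu.1 a ha.1 h1, hL.inj v hv.1 b hb.1 h2] at he
    exact hs.ne (mul_eq_right.1 he)
  · rw [hL.inj u hu.1 b hb.1 h1, hL.inj v hv.1 a ha.1 h2, ← (lam_comm hs hL T ha hb).eq] at he
    exact hs.ne (mul_eq_right.1 he)

theorem ncard_triples : (Triple p L T).ncard = 1540 := by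
  set Z : Set C → Set C := fun S => (z * ·) '' S with hZ
  have hZc : ∀ S, (Z S).ncard = S.ncard := fun S =>
    Set.ncard_image_of_injective S (mul_right_injective z)
  have hZm : ∀ {S : Set C} {y : C}, y ∈ Z S ↔ z * y ∈ S := fun {S y} => by
    constructor
    · rintro ⟨x, hx, rfl⟩; rwa [z_mul_z_mul hs]
    · exact fun h => ⟨_, h, z_mul_z_mul hs y⟩
  have hdec : (AA p E T : Set C) =
      {1, z} ∪ Lam p L T ∪ Z (Lam p L T) ∪ Pair p L T ∪ Z (Pair p L T) ∪ Triple p L T := by
    ext y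
    simp only [SetLike.mem_coe, Set.mem_union, Set.mem_insert_iff, Set.mem_singleton_iff, hZm]
    constructor
    · intro hy
      have := cases_AA hs hL T hy
      tauto
    · have hzA := z_mem_AA hs T
      have back : ∀ w, z * w ∈ AA p E T → w ∈ AA p E T :=
        fun w hw => (Subgroup.mul_mem_cancel_left _ hzA).1 hw
      rintro ((((((rfl | rfl) | h) | h) | h) | h) | h)
      exacts [one_mem _, hzA, lam_AA hs hL T h, back y (lam_AA hs hL T h), pair_AA hs hL T h,
        back y (pair_AA hs hL T h), triple_AA hs hL T h]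
  -- the numbers of factors separate the parts
  have t1 : ∀ {y}, y ∈ Lam p L T ∪ Z (Lam p L T) → IsProd E 1 (p y) := by
    rintro y (h | h)
    · exact isProd_lam hs hL T h
    · rw [← p_z_mul hs y]; exact isProd_lam hs hL T (hZm.1 h)
  have t2 : ∀ {y}, y ∈ Pair p L T ∪ Z (Pair p L T) → IsProd E 2 (p y) := by
    rintro y (h | h)
    · exact isProd_pair hs hL T h
    · rw [← p_z_mul hs y]; exact isProd_pair hs hL T (hZm.1 h)
  have t0 : ∀ {y}, y ∈ ({1, z} : Set C) → p y = 1 := by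
    rintro y (rfl | rfl)
    exacts [map_one p, hs.one]
  have d3 : Disjoint ({1, z} ∪ Lam p L T ∪ Z (Lam p L T) ∪ Pair p L T ∪ Z (Pair p L T))
      (Triple p L T) := by
    rw [Set.disjoint_left]
    intro y hy h3
    have h3' := isProd_triple hs hL T h3
    rcases hy with (((h | h) | h) | h) | h
    · exact type_ne_one hs hL h3' (by norm_num) le_rfl (t0 h)
    all_goals first
      | exact absurd (type_ne hs hL (t1 (Or.inl h)) h3' le_rfl (by norm_num) (by norm_num) le_rfl)
          (by norm_num)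
      | exact absurd (type_ne hs hL (t1 (Or.inr h)) h3' le_rfl (by norm_num) (by norm_num) le_rfl)
          (by norm_num)
      | exact absurd (type_ne hs hL (t2 (Or.inl h)) h3' (by norm_num) (by norm_num) (by norm_num)
          le_rfl) (by norm_num)
      | exact absurd (type_ne hs hL (t2 (Or.inr h)) h3' (by norm_num) (by norm_num) (by norm_num)
          le_rfl) (by norm_num)
  have d2' : Disjoint ({1, z} ∪ Lam p L T ∪ Z (Lam p L T) ∪ Pair p L T) (Z (Pair p L T)) := by
    rw [Set.disjoint_left]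
    intro y hy h2
    have h2' := t2 (Or.inr h2)
    rcases hy with ((h | h) | h) | h
    · exact type_ne_one hs hL h2' (by norm_num) (by norm_num) (t0 h)
    · exact absurd (type_ne hs hL (t1 (Or.inl h)) h2' le_rfl (by norm_num) (by norm_num)
        (by norm_num)) (by norm_num)
    · exact absurd (type_ne hs hL (t1 (Or.inr h)) h2' le_rfl (by norm_num) (by norm_num)
        (by norm_num)) (by norm_num)
    · exact not_pair_z hs hL T h (hZm.1 h2)
  have d2 : Disjoint ({1, z} ∪ Lam p L T ∪ Z (Lam p L T)) (Pair p L T) := by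
    rw [Set.disjoint_left]
    intro y hy h2
    have h2' := t2 (Or.inl h2)
    rcases hy with (h | h) | h
    · exact type_ne_one hs hL h2' (by norm_num) (by norm_num) (t0 h)
    · exact absurd (type_ne hs hL (t1 (Or.inl h)) h2' le_rfl (by norm_num) (by norm_num)
        (by norm_num)) (by norm_num)
    · exact absurd (type_ne hs hL (t1 (Or.inr h)) h2' le_rfl (by norm_num) (by norm_num)
        (by norm_num)) (by norm_num)
  have d1' : Disjoint ({1, z} ∪ Lam p L T) (Z (Lam p L T)) := by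
    rw [Set.disjoint_left]
    rintro y (h | h) h1
    · exact type_ne_one hs hL (t1 (Or.inr h1)) le_rfl (by norm_num) (t0 h)
    · exact not_lam_z hs hL T h (hZm.1 h1)
  have d1 : Disjoint ({1, z} : Set C) (Lam p L T) := by
    rw [Set.disjoint_left]
    exact fun y h h1 => type_ne_one hs hL (t1 (Or.inl h1)) le_rfl (by norm_num) (t0 h)
  have h := card_AA hs hL T
  rw [← SetLike.coe_sort_coe, Nat.card_coe_set_eq, hdec, Set.ncard_union_eq d3,
    Set.ncard_union_eq d2', Set.ncard_union_eq d2, Set.ncard_union_eq d1', Set.ncard_union_eq d1,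
    hZc, hZc, ncard_lam hs hL T, ncard_pairs hs hL T, Set.ncard_pair hs.ne.symm] at h
  omega

end Cfsg.Agent.GenA.Heptad
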