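import Cfsg.Agent.GenA.Heptad.Classes
import Cfsg.Agent.GroupStructure3.FrattiniAut
import Mathlib.GroupTheory.Perm.Cycle.Type

/-!
A set of elements of the preimage on which a group of automorphisms is transitive, which is a
union of classes, avoids squares and contains the central involution, has 23 members.
-/

set_option autoImplicit false
set_option linter.unusedSectionVars false

namespace Cfsg.Agent.GenA.Heptad

open Cfsg.Agent.ThreeTransp
open Cfsg.Agent.ThreeTransp.M22 (IsProd)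

universe u v

variable {C : Type u} [Group C] [Finite C] {X : Type v} [Group X] [Finite X] {p : C →* X}
  {z : C} {E : Set X} {L : Set C}

/-- The hypotheses on the set. -/
structure Orb (p : C →* X) (z : C) (E : Set X) (T : Sylow 2 X) (Δ : Set C) : Prop where
  sub : ∀ y ∈ Δ, y ∈ AA p E T
  base : z ∈ Δ
  inv : ∀ c : C, ∀ y ∈ Δ, c * y * c⁻¹ ∈ AA p E T → c * y * c⁻¹ ∈ Δ
  nsq : ∀ w : C, w * w ∉ Δ
  trans : ∃ R : Subgroup (MulAut ↥(AA p E T)),
    (∀ r ∈ R, ∀ y : ↥(AA p E T), (y : C) ∈ Δ → ((r y : ↥(AA p E T)) : C) ∈ Δ) ∧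
    ∀ y : ↥(AA p E T), (y : C) ∈ Δ → ∃ r ∈ R, ∀ h : z ∈ AA p E T, r ⟨z, h⟩ = y

variable (hs : Setup p z E) (hL : Good p z E L) (T : Sylow 2 X) {Δ : Set C}
  (hΔ : Orb p z E T Δ)

include hs hΔ

theorem one_notMem : (1 : C) ∉ Δ := fun h => hΔ.nsq 1 (by rwa [one_mul])

/-- A symmetry moving the base to a given point. -/
theorem exists_move {x : C} (hx : x ∈ Δ) : ∃ r : MulAut ↥(AA p E T),
    (∀ y : ↥(AA p E T), (y : C) ∈ Δ ↔ ((r y : ↥(AA p E T)) : C) ∈ Δ) ∧
      ∀ h : z ∈ AA p E T, ((r ⟨z, h⟩ : ↥(AA p E T)) : C) = x := by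
  obtain ⟨R, hR, ht⟩ := hΔ.trans
  obtain ⟨r, hr, hz⟩ := ht ⟨x, hΔ.sub x hx⟩ hx
  refine ⟨r, fun y => ⟨hR r hr y, fun h => ?_⟩, fun h => by rw [hz h]⟩
  simpa using hR r⁻¹ (inv_mem hr) (r y) h

include hL

theorem pair_notMem {y : C} (hy : y ∈ Pair p L T) : y ∉ Δ := fun h => by
  obtain ⟨w, rfl⟩ := pair_sq hs hL T hy
  exact hΔ.nsq w h

theorem all_lam {x y : C} (hx : x ∈ Lam p L T) (hy : y ∈ Lam p L T) (h : x ∈ Δ) : y ∈ Δ := by
  obtain ⟨c, rfl⟩ := conj_lam hs hL T hx hy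
  exact hΔ.inv c x h (lam_AA hs hL T hy)

theorem all_lam_z {x y : C} (hx : x ∈ Lam p L T) (hy : y ∈ Lam p L T) (h : z * x ∈ Δ) :
    z * y ∈ Δ := by
  obtain ⟨c, rfl⟩ := conj_lam hs hL T hx hy
  have e : c * (z * x) * c⁻¹ = z * (c * x * c⁻¹) := by
    rw [← mul_assoc c z x, ← (hs.cen c).eq]; simp only [mul_assoc]
  exact e ▸ hΔ.inv c _ h (e.symm ▸ mul_mem (z_mem_AA hs T) (lam_AA hs hL T hy))

theorem all_pair {x y : C} (hx : x ∈ Pair p L T) (hy : y ∈ Pair p L T) (h : z * x ∈ Δ) :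
    z * y ∈ Δ := by
  obtain ⟨c, rfl⟩ := conj_pair hs hL T hx hy
  have e : c * (z * x) * c⁻¹ = z * (c * x * c⁻¹) := by
    rw [← mul_assoc c z x, ← (hs.cen c).eq]; simp only [mul_assoc]
  exact e ▸ hΔ.inv c _ h (e.symm ▸ mul_mem (z_mem_AA hs T) (pair_AA hs hL T hy))

theorem all_triple {x y : C} (hx : x ∈ Triple p L T) (hy : y ∈ Triple p L T) (h : x ∈ Δ) :
    y ∈ Δ := by
  obtain ⟨c, rfl⟩ := conj_triple hs hL T hx hy
  exact hΔ.inv c x h (triple_AA hs hL T hy)

/-- The number of members by classes. -/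
theorem ncard_formula : ∃ t1 t1' t2 t3 : ℕ,
    ((t1 = 0 ∧ ∀ x ∈ Lam p L T, x ∉ Δ) ∨ (t1 = 22 ∧ ∀ x ∈ Lam p L T, x ∈ Δ)) ∧
    ((t1' = 0 ∧ ∀ x ∈ Lam p L T, z * x ∉ Δ) ∨ (t1' = 22 ∧ ∀ x ∈ Lam p L T, z * x ∈ Δ)) ∧
    ((t2 = 0 ∧ ∀ x ∈ Pair p L T, z * x ∉ Δ) ∨ (t2 = 231 ∧ ∀ x ∈ Pair p L T, z * x ∈ Δ)) ∧
    ((t3 = 0 ∧ ∀ x ∈ Triple p L T, x ∉ Δ) ∨ (t3 = 1540 ∧ ∀ x ∈ Triple p L T, x ∈ Δ)) ∧
    Δ.ncard = 1 + t1 + t1' + t2 + t3 := by
  set Z : Set C → Set C := fun S => (z * ·) '' S with hZ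
  have hZm : ∀ {S : Set C} {y : C}, y ∈ Z S ↔ z * y ∈ S := fun {S y} => by
    constructor
    · rintro ⟨x, hx, rfl⟩; rwa [z_mul_z_mul hs]
    · exact fun h => ⟨_, h, z_mul_z_mul hs y⟩
  have key : ∀ (S : Set C) (n : ℕ), S.ncard = n → (∀ x ∈ S, ∀ y ∈ S, x ∈ Δ → y ∈ Δ) →
      ((Δ ∩ S).ncard = 0 ∧ ∀ x ∈ S, x ∉ Δ) ∨ ((Δ ∩ S).ncard = n ∧ ∀ x ∈ S, x ∈ Δ) := by
    intro S n hn hall
    by_cases h : ∃ x ∈ S, x ∈ Δ
    · obtain ⟨x, hx, hxΔ⟩ := h
      exact Or.inr ⟨by rw [Set.inter_eq_right.2 fun y hy => hall x hx y hy hxΔ, hn],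
        fun y hy => hall x hx y hy hxΔ⟩
    · push Not at h
      refine Or.inl ⟨?_, h⟩
      rw [Set.ncard_eq_zero (Set.toFinite _)]
      exact Set.eq_empty_iff_forall_notMem.2 fun y hy => h y hy.2 hy.1
  have zc : ∀ S : Set C, (Z S).ncard = S.ncard := fun S =>
    Set.ncard_image_of_injective S (mul_right_injective z)
  have zall : ∀ (S : Set C), (∀ x ∈ S, ∀ y ∈ S, z * x ∈ Δ → z * y ∈ Δ) →
      ∀ x ∈ Z S, ∀ y ∈ Z S, x ∈ Δ → y ∈ Δ := by
    rintro S h _ ⟨x, hx, rfl⟩ _ ⟨y, hy, rfl⟩ hxy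
    exact h x hx y hy hxy
  have k1 := key _ 22 (ncard_lam hs hL T) fun x hx y hy => all_lam hs hL T hΔ hx hy
  have k1' := key (Z (Lam p L T)) 22 (by rw [zc, ncard_lam hs hL T])
    (zall _ fun x hx y hy => all_lam_z hs hL T hΔ hx hy)
  have k2 := key (Z (Pair p L T)) 231 (by rw [zc, ncard_pairs hs hL T])
    (zall _ fun x hx y hy => all_pair hs hL T hΔ hx hy)
  have k3 := key _ 1540 (ncard_triples hs hL T) fun x hx y hy => all_triple hs hL T hΔ hx hy
  have conv : ∀ {S : Set C} {m n : ℕ},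
      ((m = 0 ∧ ∀ x ∈ Z S, x ∉ Δ) ∨ (m = n ∧ ∀ x ∈ Z S, x ∈ Δ)) →
      ((m = 0 ∧ ∀ x ∈ S, z * x ∉ Δ) ∨ (m = n ∧ ∀ x ∈ S, z * x ∈ Δ)) := by
    rintro S m n (⟨e, h⟩ | ⟨e, h⟩)
    exacts [Or.inl ⟨e, fun x hx => h _ ⟨x, hx, rfl⟩⟩, Or.inr ⟨e, fun x hx => h _ ⟨x, hx, rfl⟩⟩]
  refine ⟨_, _, _, _, k1, conv k1', conv k2, k3, ?_⟩
  have hdec : Δ = {z} ∪ Δ ∩ Lam p L T ∪ Δ ∩ Z (Lam p L T) ∪ Δ ∩ Z (Pair p L T) ∪
      Δ ∩ Triple p L T := by
    ext y
    simp only [Set.mem_union, Set.mem_inter_iff, Set.mem_singleton_iff, hZm]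
    constructor
    · intro hy
      rcases cases_AA hs hL T (hΔ.sub y hy) with rfl | h | h | h | h | h | h
      · exact absurd hy (one_notMem hs T hΔ)
      · tauto
      · tauto
      · tauto
      · exact absurd hy (pair_notMem hs hL T hΔ h)
      · tauto
      · tauto
    · rintro ((((rfl | h) | h) | h) | h)
      exacts [hΔ.base, h.1, h.1, h.1, h.1]
  have t1 : ∀ {y}, y ∈ Lam p L T ∨ y ∈ Z (Lam p L T) → IsProd E 1 (p y) := by
    rintro y (h | h)
    · exact isProd_lam hs hL T h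
    · rw [← p_z_mul hs y]; exact isProd_lam hs hL T (hZm.1 h)
  have t2 : ∀ {y}, y ∈ Z (Pair p L T) → IsProd E 2 (p y) := fun {y} h => by
    rw [← p_z_mul hs y]; exact isProd_pair hs hL T (hZm.1 h)
  have t3 : ∀ {y}, y ∈ Triple p L T → IsProd E 3 (p y) := fun h => isProd_triple hs hL T h
  have zero : ∀ {m}, IsProd E m (p z) → 1 ≤ m → m ≤ 3 → False := fun h a b =>
    type_ne_one hs hL h a b hs.one
  conv_lhs => rw [hdec]
  rw [Set.ncard_union_eq, Set.ncard_union_eq, Set.ncard_union_eq, Set.ncard_union_eq,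
    Set.ncard_singleton]
  all_goals rw [Set.disjoint_left]
  · rintro y rfl h
    exact zero (t1 (Or.inl h.2)) le_rfl (by norm_num)
  · rintro y (rfl | h) h'
    · exact zero (t1 (Or.inr h'.2)) le_rfl (by norm_num)
    · exact not_lam_z hs hL T h.2 (hZm.1 h'.2)
  · rintro y ((rfl | h) | h) h'
    · exact zero (t2 h'.2) (by norm_num) (by norm_num)
    · exact absurd (type_ne hs hL (t1 (Or.inl h.2)) (t2 h'.2) le_rfl (by norm_num) (by norm_num)
        (by norm_num)) (by norm_num)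
    · exact absurd (type_ne hs hL (t1 (Or.inr h.2)) (t2 h'.2) le_rfl (by norm_num) (by norm_num)
        (by norm_num)) (by norm_num)
  · rintro y (((rfl | h) | h) | h) h'
    · exact zero (t3 h'.2) (by norm_num) le_rfl
    · exact absurd (type_ne hs hL (t1 (Or.inl h.2)) (t3 h'.2) le_rfl (by norm_num) (by norm_num)
        le_rfl) (by norm_num)
    · exact absurd (type_ne hs hL (t1 (Or.inr h.2)) (t3 h'.2) le_rfl (by norm_num) (by norm_num)
        le_rfl) (by norm_num)
    · exact absurd (type_ne hs hL (t2 h.2) (t3 h'.2) (by norm_num) (by norm_num) (by norm_num)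
        le_rfl) (by norm_num)

omit hL in
/-- The number of members divides the order of the automorphism group. -/
theorem dvd_aut (hcard : Nat.card ↥(AA p E T) = 2 ^ 11)
    (hel : Cfsg.IsElementaryAbelian 2 (AA p E T)) :
    Δ.ncard ∣ ∏ i ∈ Finset.range 11, (2 ^ 11 - 2 ^ i) ∧
    (127 ∣ Δ.ncard → ∃ φ : MulAut ↥(AA p E T), orderOf φ = 127 ∧
      ∀ y : ↥(AA p E T), (y : C) ∈ Δ → ((φ y : ↥(AA p E T)) : C) ∈ Δ) := by
  obtain ⟨R, hR, ht⟩ := hΔ.trans
  have hzA := hΔ.sub z hΔ.base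
  have horb : (MulAction.orbit R (⟨z, hzA⟩ : ↥(AA p E T))).ncard = Δ.ncard := by
    rw [← Set.ncard_image_of_injective _ Subtype.val_injective]
    congr 1
    ext y
    constructor
    · rintro ⟨_, ⟨r, rfl⟩, rfl⟩
      exact hR r r.2 ⟨z, hzA⟩ hΔ.base
    · intro hy
      obtain ⟨r, hr, hz⟩ := ht ⟨y, hΔ.sub y hy⟩ hy
      exact ⟨_, ⟨⟨r, hr⟩, rfl⟩, congrArg Subtype.val (hz hzA)⟩
  haveI : Finite (MulAut ↥(AA p E T)) :=
    Finite.of_injective (fun e : MulAut ↥(AA p E T) => (e : ↥(AA p E T) → ↥(AA p E T)))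
      DFunLike.coe_injective
  have hdvd : Δ.ncard ∣ Nat.card R := by
    rw [← horb, ← MulAction.index_stabilizer]
    exact Subgroup.index_dvd_card _
  refine ⟨?_, fun h127 => ?_⟩
  · haveI : IsMulCommutative ↥(AA p E T) := hel.1
    letI : CommGroup ↥(AA p E T) :=
      { (inferInstance : Group ↥(AA p E T)) with mul_comm := mul_comm' }
    haveI : Fact (Nat.Prime 2) := ⟨Nat.prime_two⟩
    rw [← GroupStructure3.FrattiniAut.card_mulAut_elementary (Q := ↥(AA p E T)) (p := 2) (r := 11)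
      hcard fun x => Subtype.ext (hel.2 x x.2)]
    exact hdvd.trans (Subgroup.card_subgroup_dvd_card R)
  · haveI : Fact (Nat.Prime 127) := ⟨by norm_num⟩
    obtain ⟨r, hr⟩ := exists_prime_orderOf_dvd_card' 127 (h127.trans hdvd)
    exact ⟨r, by rw [← hr, Subgroup.orderOf_coe], fun y hy => hR r r.2 y hy⟩

omit hL in
/-- With an automorphism of order 127 on 254 members: many quadruples. -/
theorem many (hcard : Nat.card ↥(AA p E T) = 2 ^ 11)
    (hel : Cfsg.IsElementaryAbelian 2 (AA p E T)) (h254 : Δ.ncard = 254) :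
    ∃ v ∈ Δ, v ≠ z ∧ 126 ≤ {s : C | s ∈ Δ ∧ s * z * v ∈ Δ}.ncard := by
  classical
  haveI : IsMulCommutative ↥(AA p E T) := hel.1
  letI : CommGroup ↥(AA p E T) :=
    { (inferInstance : Group ↥(AA p E T)) with mul_comm := mul_comm' }
  haveI : Fact (Nat.Prime 127) := ⟨by norm_num⟩
  obtain ⟨φ, hφ, hφΔ⟩ := (dvd_aut hs T hΔ hcard hel).2 (by rw [h254]; norm_num)
  have sqA : ∀ a : ↥(AA p E T), a * a = 1 := fun a =>
    Subtype.ext ((pow_two (a : C)).symm.trans (hel.2 a a.2))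
  let θ : ↥(AA p E T) →* ↥(AA p E T) := MonoidHom.mk' (fun a => φ a * a)
    fun a b => by rw [map_mul]; exact mul_mul_mul_comm _ _ _ _
  have hfix : ∀ a, a ∈ θ.ker ↔ φ a = a := fun a => by
    rw [MonoidHom.mem_ker]
    show φ a * a = 1 ↔ _
    constructor
    · intro h
      rw [eq_inv_of_mul_eq_one_left h, inv_eq_of_mul_eq_one_left (sqA a)]
    · intro h
      rw [h, sqA]
  -- the fixed points
  have hP : IsPGroup 127 ↥(Subgroup.zpowers φ) :=
    IsPGroup.of_card (n := 1) (by rw [Nat.card_zpowers, hφ, pow_one])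
  have hfixset : MulAction.fixedPoints ↥(Subgroup.zpowers φ) ↥(AA p E T) =
      (θ.ker : Set ↥(AA p E T)) := by
    ext a
    rw [MulAction.mem_fixedPoints, SetLike.mem_coe, hfix]
    constructor
    · exact fun h => h ⟨φ, Subgroup.mem_zpowers φ⟩
    · rintro h ⟨ψ, hψ⟩
      have hle : Subgroup.zpowers φ ≤ MulAction.stabilizer (MulAut ↥(AA p E T)) a :=
        Subgroup.zpowers_le.2 h
      exact hle hψ
  have hmod := hP.card_modEq_card_fixedPoints ↥(AA p E T)
  rw [hcard, hfixset, SetLike.coe_sort_coe] at hmod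
  haveI : Fact (Nat.Prime 2) := ⟨Nat.prime_two⟩
  obtain ⟨k, hk11, hk⟩ := (Nat.dvd_prime_pow Nat.prime_two).1
    (hcard ▸ Subgroup.card_subgroup_dvd_card θ.ker)
  have hk4 : k = 4 := by
    have hne : k ≠ 11 := by
      rintro rfl
      have htop : θ.ker = ⊤ := Subgroup.eq_top_of_card_eq _ (hk.trans hcard.symm)
      have : φ = 1 := MulEquiv.ext fun a => (hfix a).1 (htop ▸ Subgroup.mem_top a)
      rw [this, orderOf_one] at hφ
      norm_num at hφ
    rw [hk] at hmod
    unfold Nat.ModEq at hmod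
    interval_cases k <;> first | rfl | omega
  subst hk4
  have hW : Nat.card θ.range = 128 := by
    have h := Subgroup.card_eq_card_quotient_mul_card_subgroup θ.ker
    rw [Nat.card_congr (QuotientGroup.quotientKerEquivRange θ).toEquiv, hcard, hk] at h
    omega
  -- a moved member
  obtain ⟨x₀, hx₀, hmove⟩ : ∃ x : ↥(AA p E T), (x : C) ∈ Δ ∧ x ∉ θ.ker := by
    by_contra! h
    have hle : Δ.ncard ≤ (Subtype.val '' (θ.ker : Set ↥(AA p E T))).ncard :=
      Set.ncard_le_ncard (fun y hy => ⟨⟨y, hΔ.sub y hy⟩, h _ hy, rfl⟩) (Set.toFinite _)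
    rw [Set.ncard_image_of_injective _ Subtype.val_injective, h254, ← Nat.card_coe_set_eq,
      SetLike.coe_sort_coe, hk] at hle
    norm_num at hle
  set O := MulAction.orbit ↥(Subgroup.zpowers φ) x₀ with hO
  have hOc : O.ncard = 127 := by
    obtain ⟨n, hn⟩ := hP.card_orbit x₀
    rw [Nat.card_coe_set_eq] at hn
    have hle : O.ncard ≤ 127 := by
      rw [← hφ, ← Nat.card_zpowers, hO, ← MulAction.index_stabilizer]
      exact Nat.le_of_dvd Nat.card_pos (Subgroup.index_dvd_card _)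
    rcases n with _ | _ | n
    · exfalso
      rw [pow_zero, Set.ncard_eq_one] at hn
      obtain ⟨w, hw⟩ := hn
      have h1 : x₀ ∈ O := MulAction.mem_orbit_self x₀
      have h2 : φ x₀ ∈ O := ⟨⟨φ, Subgroup.mem_zpowers φ⟩, rfl⟩
      rw [hO, hw, Set.mem_singleton_iff] at h1 h2
      exact hmove ((hfix x₀).2 (h2.trans h1.symm))
    · rw [hn]; rfl
    · rw [hn] at hle
      have : 127 ^ 2 ≤ 127 ^ (n + 1 + 1) := Nat.pow_le_pow_right (by norm_num) (by omega)
      omega
  set P : Set ↥(AA p E T) := {y | (y : C) ∈ Δ ∧ x₀ * y ∈ θ.range} with hPdef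
  have hx₀P : x₀ ∈ P := ⟨hx₀, by rw [sqA]; exact one_mem _⟩
  have hstep : ∀ y ∈ P, φ y ∈ P := fun y hy => ⟨hφΔ y hy.1, by
    have h : x₀ * φ y = x₀ * y * (φ y * y) := by
      rw [mul_assoc, mul_left_comm y (φ y) y, sqA, mul_one]
    rw [h]
    exact mul_mem hy.2 ⟨y, rfl⟩⟩
  have hOP : O ⊆ P := by
    rintro _ ⟨⟨ψ, hψ⟩, rfl⟩
    haveI : Finite (MulAut ↥(AA p E T)) :=
      Finite.of_injective (fun e : MulAut ↥(AA p E T) => (e : ↥(AA p E T) → ↥(AA p E T)))
        DFunLike.coe_injective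
    rw [mem_zpowers_iff_mem_range_orderOf, Finset.mem_image] at hψ
    obtain ⟨i, -, rfl⟩ := hψ
    have key : ∀ j : ℕ, (φ ^ j) x₀ ∈ P := by
      intro j
      induction j with
      | zero => simpa using hx₀P
      | succ j ih => rw [pow_succ']; exact hstep _ ih
    exact key i
  obtain ⟨v, hv, hvx⟩ := Set.exists_ne_of_one_lt_ncard (s := O) (by rw [hOc]; norm_num) x₀
  set cs : Set ↥(AA p E T) := (x₀ * ·) '' (θ.range : Set ↥(AA p E T)) with hcs
  have hcsc : cs.ncard = 128 := by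
    rw [hcs, Set.ncard_image_of_injective _ (mul_right_injective x₀), ← Nat.card_coe_set_eq,
      SetLike.coe_sort_coe, hW]
  have hPcs : ∀ y ∈ P, y ∈ cs := fun y hy =>
    ⟨x₀ * y, hy.2, by show x₀ * (x₀ * y) = y; rw [← mul_assoc, sqA, one_mul]⟩
  set f : ↥(AA p E T) → ↥(AA p E T) := fun s => s * x₀ * v with hf
  have finj : Function.Injective f := fun a b h => mul_right_cancel (mul_right_cancel h)
  have hsub : O ∪ f '' O ⊆ cs := by
    rintro y (hy | ⟨s, hs', rfl⟩)
    · exact hPcs y (hOP hy)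
    · refine ⟨x₀ * s * (x₀ * v), mul_mem (hOP hs').2 (hOP hv).2, ?_⟩
      show x₀ * (x₀ * s * (x₀ * v)) = s * x₀ * v
      rw [← mul_assoc, ← mul_assoc x₀ x₀ s, sqA, one_mul, mul_assoc]
  have h126 : 126 ≤ (O ∩ f '' O).ncard := by
    have h1 := Set.ncard_union_add_ncard_inter O (f '' O)
    rw [Set.ncard_image_of_injective _ finj, hOc] at h1
    have h2 := Set.ncard_le_ncard hsub (Set.toFinite _)
    omega
  obtain ⟨r, hr, hrz⟩ := exists_move hs T hΔ hx₀
  have hzA := hΔ.sub z hΔ.base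
  have hrz' : r ⟨z, hzA⟩ = x₀ := Subtype.ext (hrz hzA)
  refine ⟨((r.symm v : ↥(AA p E T)) : C), ?_, fun e => hvx ?_, ?_⟩
  · rw [hr, MulEquiv.apply_symm_apply]
    exact (hOP hv).1
  · rw [← hrz', ← r.apply_symm_apply v]
    exact congrArg r (Subtype.ext e)
  · refine h126.trans ?_
    rw [← Set.ncard_image_of_injective (O ∩ f '' O) (Subtype.val_injective.comp r.symm.injective)]
    refine Set.ncard_le_ncard ?_ (Set.toFinite _)
    rintro _ ⟨y, ⟨hy, s, hs', rfl⟩, rfl⟩
    refine ⟨?_, ?_⟩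
    · show ((r.symm (f s) : ↥(AA p E T)) : C) ∈ Δ
      rw [hr, MulEquiv.apply_symm_apply]
      exact (hOP hy).1
    · have e : f s * x₀ * v = s := by
        show s * x₀ * v * x₀ * v = s
        rw [mul_assoc (s * x₀ * v) x₀ v, mul_assoc s x₀ v, mul_assoc s, sqA, mul_one]
      have h : ((r.symm (f s * x₀ * v) : ↥(AA p E T)) : C) ∈ Δ := by
        rw [hr, MulEquiv.apply_symm_apply, e]
        exact (hOP hs').1
      rw [map_mul, map_mul, show r.symm x₀ = ⟨z, hzA⟩ from r.symm_apply_eq.2 hrz'.symm] at h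
      exact h

theorem no_45 (h1 : ∀ x ∈ Lam p L T, x ∈ Δ)
    (hall : ∀ y ∈ Δ, y = z ∨ y ∈ Lam p L T ∨ z * y ∈ Lam p L T)
    (h1' : ∀ x ∈ Lam p L T, z * x ∈ Δ) : False := by
  obtain ⟨x, hx⟩ : (Lam p L T).Nonempty :=
    Set.nonempty_of_ncard_ne_zero ((ncard_lam hs hL T).trans_ne (by norm_num))
  obtain ⟨y, hy, hyx⟩ := Set.exists_ne_of_one_lt_ncard (s := Lam p L T)
    (ncard_lam hs hL T ▸ by norm_num) x
  obtain ⟨r, hr, hrz⟩ := exists_move hs T hΔ (h1 x hx)
  have hzA := hΔ.sub z hΔ.base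
  set w := r.symm ⟨y, lam_AA hs hL T hy⟩ with hw
  have hwΔ : (w : C) ∈ Δ := by rw [hr, hw, MulEquiv.apply_symm_apply]; exact h1 y hy
  have hwz : (w : C) ≠ z := fun e => hyx (by
    have : r w = r ⟨z, hzA⟩ := congrArg r (Subtype.ext e)
    rw [hw, MulEquiv.apply_symm_apply] at this
    exact (congrArg Subtype.val this).trans (hrz hzA))
  have hprod : z * (w : C) ∈ Δ := by
    rcases hall _ hwΔ with h | h | h
    · exact absurd h hwz
    · exact h1' _ h
    · exact h1 _ h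
  have h := (hr (⟨z, hzA⟩ * w)).1 hprod
  rw [map_mul, hw, MulEquiv.apply_symm_apply, Subgroup.coe_mul, hrz hzA] at h
  exact pair_notMem hs hL T hΔ ⟨x, hx, y, hy, hyx.symm, rfl⟩ h

theorem no_276 (h1 : ∀ x ∈ Lam p L T, x ∈ Δ) (h1' : ∀ x ∈ Lam p L T, z * x ∈ Δ)
    (h2 : ∀ x ∈ Pair p L T, z * x ∈ Δ) (h3 : ∀ x ∈ Triple p L T, x ∉ Δ) : False := by
  obtain ⟨x, hx⟩ : (Lam p L T).Nonempty :=
    Set.nonempty_of_ncard_ne_zero ((ncard_lam hs hL T).trans_ne (by norm_num))
  obtain ⟨x', hx', hxx'⟩ := Set.exists_ne_of_one_lt_ncard (s := Lam p L T)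
    (ncard_lam hs hL T ▸ by norm_num) x
  obtain ⟨r, hr, hrz⟩ := exists_move hs T hΔ (h1 x hx)
  have hzA := hΔ.sub z hΔ.base
  set w : ↥(AA p E T) := ⟨z * x', mul_mem hzA (lam_AA hs hL T hx')⟩ with hw
  set u := r.symm w with hu
  have huΔ : (u : C) ∈ Δ := by rw [hr, hu, MulEquiv.apply_symm_apply]; exact h1' x' hx'
  have hadj : z * (u : C) ∈ Δ := by
    show ((⟨z, hzA⟩ * u : ↥(AA p E T)) : C) ∈ Δ
    rw [hr, map_mul, hu, MulEquiv.apply_symm_apply, Subgroup.coe_mul, hrz hzA]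
    show x * (z * x') ∈ Δ
    rw [← mul_assoc, ← (hs.cen x).eq, mul_assoc]
    exact h2 _ ⟨x, hx, x', hx', hxx'.symm, rfl⟩
  -- 22 common neighbours of the base and `u`
  have big : 22 ≤ {s : C | s ∈ Δ ∧ z * s ∈ Δ ∧ (u : C) * s ∈ Δ}.ncard := by
    rcases cases_AA hs hL T u.2 with e | e | e | e | e | e | e
    · exact absurd (e ▸ huΔ) (one_notMem hs T hΔ)
    · rw [e, hs.sq] at hadj
      exact absurd hadj (one_notMem hs T hΔ)
    · rw [← ncard_lam hs hL T, ← Set.ncard_image_of_injective _ (mul_right_injective z)]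
      refine Set.ncard_le_ncard ?_ (Set.toFinite _)
      rintro _ ⟨y, hy, rfl⟩
      refine ⟨h1' y hy, by show z * (z * y) ∈ Δ; rw [z_mul_z_mul hs]; exact h1 y hy, ?_⟩
      show (u : C) * (z * y) ∈ Δ
      rw [← mul_assoc, ← (hs.cen (u : C)).eq, mul_assoc]
      rcases eq_or_ne (u : C) y with h | h
      · rw [h, lam_sq hs hL T hy, mul_one]; exact hΔ.base
      · exact h2 _ ⟨u, e, y, hy, h, rfl⟩
    · rw [← ncard_lam hs hL T]
      refine Set.ncard_le_ncard ?_ (Set.toFinite _)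
      intro y hy
      refine ⟨h1 y hy, h1' y hy, ?_⟩
      rw [← z_mul_z_mul hs (u : C), mul_assoc]
      rcases eq_or_ne (z * (u : C)) y with h | h
      · rw [h, lam_sq hs hL T hy, mul_one]; exact hΔ.base
      · exact h2 _ ⟨_, e, y, hy, h, rfl⟩
    · exact absurd huΔ (pair_notMem hs hL T hΔ e)
    · exact absurd hadj (pair_notMem hs hL T hΔ e)
    · exact absurd huΔ (h3 _ e)
  -- at most two common neighbours of `x` and `z * x'`
  have small : {s : C | s ∈ Δ ∧ x * s ∈ Δ ∧ z * x' * s ∈ Δ} ⊆ {z, z * (x * x')} := by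
    rintro s ⟨hsΔ, ha, hb⟩
    rcases cases_AA hs hL T (hΔ.sub s hsΔ) with e | e | e | e | e | e | e
    · exact absurd (e ▸ hsΔ) (one_notMem hs T hΔ)
    · exact Or.inl e
    · exfalso
      rcases eq_or_ne x s with rfl | h
      · exact one_notMem hs T hΔ (by rwa [lam_sq hs hL T hx] at ha)
      · exact pair_notMem hs hL T hΔ ⟨x, hx, s, e, h, rfl⟩ ha
    · exfalso
      rw [← z_mul_z_mul hs s, mul_assoc, ← mul_assoc x' z, ← (hs.cen x').eq, ← mul_assoc z,
        ← mul_assoc z, hs.sq, one_mul] at hb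
      rcases eq_or_ne x' (z * s) with h | h
      · exact one_notMem hs T hΔ (by rwa [← h, lam_sq hs hL T hx'] at hb)
      · exact pair_notMem hs hL T hΔ ⟨x', hx', _, e, h, rfl⟩ hb
    · exact absurd hsΔ (pair_notMem hs hL T hΔ e)
    · obtain ⟨a, ha', b, hb', hab, he⟩ := e
      have hsd : s = z * (a * b) := by rw [← he, z_mul_z_mul hs]
      have tr : ∀ {q r t}, q ∈ Lam p L T → r ∈ Lam p L T → t ∈ Lam p L T → q ≠ r → q ≠ t → r ≠ t →
          z * (q * (r * t)) ∉ Δ := fun {q r t} hq hr' ht n1 n2 n3 =>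
        h3 _ (z_mul_triple hs hL T ⟨q, hq, r, hr', t, ht, n1, n2, n3, (mul_assoc q r t).symm⟩)
      rw [hsd, ← mul_assoc, ← (hs.cen x).eq, mul_assoc] at ha
      rw [hsd, mul_assoc z x', ← mul_assoc x' z, ← (hs.cen x').eq, mul_assoc z x',
        z_mul_z_mul hs] at hb
      have fin : ∀ c, c ∈ Lam p L T → x ≠ c → x' * (x * c) ∈ Δ → s = z * (x * c) →
          s ∈ ({z, z * (x * x')} : Set C) := by
        intro c hc hxc hb2 hsc
        rcases eq_or_ne x' c with rfl | hc'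
        · exact Or.inr hsc
        · exact absurd hb2 (h3 _ ⟨x', hx', x, hx, c, hc, hxx', hc', hxc, (mul_assoc x' x c).symm⟩)
      rcases eq_or_ne x a with rfl | hxa
      · exact fin b hb' hab hb hsd
      rcases eq_or_ne x b with rfl | hxb
      · rw [(lam_comm hs hL T ha' hb').eq] at hb hsd
        exact fin a ha' hab.symm hb hsd
      exact absurd ha (tr hx ha' hb' hxa hxb hab)
    · exact absurd hsΔ (h3 _ e)
  classical
  have h22 : 22 ≤ {s : C | s ∈ Δ ∧ x * s ∈ Δ ∧ z * x' * s ∈ Δ}.ncard := by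
    refine big.trans ?_
    have hsubA : ∀ s ∈ {s : C | s ∈ Δ ∧ z * s ∈ Δ ∧ (u : C) * s ∈ Δ}, s ∈ AA p E T :=
      fun s hs' => hΔ.sub s hs'.1
    refine Set.ncard_le_ncard_of_injOn
      (fun s => if h : s ∈ AA p E T then ((r ⟨s, h⟩ : ↥(AA p E T)) : C) else 1) ?_ ?_
      (Set.toFinite _)
    · intro s hs'
      have h := hsubA s hs'
      simp only [dif_pos h]
      refine ⟨(hr ⟨s, h⟩).1 hs'.1, ?_, ?_⟩
      · have := (hr (⟨z, hzA⟩ * ⟨s, h⟩)).1 hs'.2.1
        rwa [map_mul, Subgroup.coe_mul, hrz hzA] at this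
      · have := (hr (u * ⟨s, h⟩)).1 hs'.2.2
        rwa [map_mul, hu, MulEquiv.apply_symm_apply, Subgroup.coe_mul] at this
    · intro s hs' t ht he
      simp only [dif_pos (hsubA s hs'), dif_pos (hsubA t ht)] at he
      exact congrArg Subtype.val (r.injective (Subtype.ext he))
  have := (Set.ncard_le_ncard small (Set.toFinite _)).trans' h22
  have := Set.ncard_insert_le z ({z * (x * x')} : Set C)
  rw [Set.ncard_singleton] at this
  omega

theorem no_254 (h1 : ∀ x ∈ Lam p L T, x ∈ Δ) (h1' : ∀ x ∈ Lam p L T, z * x ∉ Δ)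
    (h2 : ∀ x ∈ Pair p L T, z * x ∈ Δ) (h3 : ∀ x ∈ Triple p L T, x ∉ Δ)
    (h254 : Δ.ncard = 254) : False := by
  obtain ⟨v, hv, hvz, h126⟩ := many hs T hΔ (card_AA hs hL T) (elementary_AA hs hL T) h254
  -- the kinds of members
  have kinds : ∀ s ∈ Δ, s = z ∨ s ∈ Lam p L T ∨ ∃ a ∈ Lam p L T, ∃ b ∈ Lam p L T, a ≠ b ∧
      s = z * (a * b) := by
    intro s hsΔ
    rcases cases_AA hs hL T (hΔ.sub s hsΔ) with e | e | e | e | e | e | e
    · exact absurd (e ▸ hsΔ) (one_notMem hs T hΔ)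
    · exact Or.inl e
    · exact Or.inr (Or.inl e)
    · exact absurd (by rwa [z_mul_z_mul hs]) (h1' _ e)
    · exact absurd hsΔ (pair_notMem hs hL T hΔ e)
    · obtain ⟨a, ha, b, hb, hab, he⟩ := e
      exact Or.inr (Or.inr ⟨a, ha, b, hb, hab, by rw [← he, z_mul_z_mul hs]⟩)
    · exact absurd hsΔ (h3 _ e)
  have card1 : ∀ c : C, ((z * c * ·) '' Lam p L T).ncard = 22 := fun c => by
    rw [Set.ncard_image_of_injective _ (mul_right_injective _), ncard_lam hs hL T]
  rcases kinds v hv with rfl | hu | ⟨a, ha, b, hb, hab, rfl⟩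
  · exact hvz rfl
  · have hsub : {s : C | s ∈ Δ ∧ s * z * v ∈ Δ} ⊆
        {z} ∪ Lam p L T ∪ (z * v * ·) '' Lam p L T := by
      rintro s ⟨hsΔ, hw⟩
      rcases kinds s hsΔ with rfl | h | ⟨c, hc, e, he, hce, rfl⟩
      · exact Or.inl (Or.inl rfl)
      · exact Or.inl (Or.inr h)
      rw [← (hs.cen (z * (c * e))).eq, z_mul_z_mul hs] at hw
      rcases eq_or_ne v c with rfl | hvc
      · exact Or.inr ⟨e, he, by simp only [mul_assoc]⟩
      rcases eq_or_ne v e with rfl | hve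
      · exact Or.inr ⟨c, hc, by show z * v * c = z * (c * v); rw [mul_assoc, (lam_comm hs hL T hu hc).eq]⟩
      exact absurd hw (h3 _ ⟨c, hc, e, he, v, hu, hce, hvc.symm, hve.symm, rfl⟩)
    have := (Set.ncard_le_ncard hsub (Set.toFinite _)).trans ((Set.ncard_union_le _ _).trans
      (Nat.add_le_add_right (Set.ncard_union_le _ _) _))
    rw [Set.ncard_singleton, ncard_lam hs hL T, card1] at this
    omega
  · have hsub : {s : C | s ∈ Δ ∧ s * z * (z * (a * b)) ∈ Δ} ⊆
        {z} ∪ Lam p L T ∪ (z * a * ·) '' Lam p L T ∪ (z * b * ·) '' Lam p L T := by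
      rintro s ⟨hsΔ, hw⟩
      rcases kinds s hsΔ with rfl | h | ⟨c, hc, e, he, hce, rfl⟩
      · exact Or.inl (Or.inl (Or.inl rfl))
      · exact Or.inl (Or.inl (Or.inr h))
      rw [mul_assoc _ z, z_mul_z_mul hs] at hw
      rcases eq_or_ne a c with rfl | hac
      · exact Or.inl (Or.inr ⟨e, he, by simp only [mul_assoc]⟩)
      rcases eq_or_ne a e with rfl | hae
      · exact Or.inl (Or.inr ⟨c, hc, by show z * a * c = z * (c * a); rw [mul_assoc, (lam_comm hs hL T ha hc).eq]⟩)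
      rcases eq_or_ne b c with rfl | hbc
      · exact Or.inr ⟨e, he, by simp only [mul_assoc]⟩
      rcases eq_or_ne b e with rfl | hbe
      · exact Or.inr ⟨c, hc, by show z * b * c = z * (c * b); rw [mul_assoc, (lam_comm hs hL T hb hc).eq]⟩
      exfalso
      -- the product of four distinct members
      set w := z * (c * e) * (a * b) with hwdef
      have hpw : p w = p c * p e * p a * p b := by
        rw [hwdef, map_mul, p_z_mul hs, map_mul, map_mul]; simp only [mul_assoc]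
      have sqE : ∀ {y}, y ∈ Lam p L T → p y * p y = 1 := fun hy => by
        rw [← map_mul, lam_sq hs hL T hy, map_one]
      have tri : IsProd E 3 (p (c * e * a)) := isProd_triple hs hL T
        ⟨c, hc, e, he, a, ha, hce, hac.symm, hae.symm, rfl⟩
      have q3 : p (c * e * a) = p w * p b := by
        rw [hpw, mul_assoc (p c * p e * p a), sqE hb, mul_one, map_mul, map_mul]
      rcases kinds w hw with h | h | ⟨k, hk, l, hl, hkl, h⟩
      · rw [h, hs.one, one_mul] at q3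
        rw [q3] at tri
        exact absurd (type_ne hs hL tri (isProd_lam hs hL T hb) (by norm_num) le_rfl le_rfl
          (by norm_num)) (by norm_num)
      · rw [q3] at tri
        rcases eq_or_ne w b with e' | e'
        · rw [e', sqE hb] at tri
          exact type_ne_one hs hL tri (by norm_num) le_rfl rfl
        · rw [← map_mul] at tri
          exact absurd (type_ne hs hL tri (isProd_pair hs hL T ⟨w, h, b, hb, e', rfl⟩)
            (by norm_num) le_rfl (by norm_num) (by norm_num)) (by norm_num)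
      · have q4 : p (c * e * a) = p (k * l * b) := by
          rw [q3, h, p_z_mul hs, ← map_mul]
        rcases eq_or_ne k b with e' | hkb
        · subst e'
          have e2 : k * l * k = l := by
            rw [mul_assoc, (lam_comm hs hL T hl hk).eq, ← mul_assoc, lam_sq hs hL T hk, one_mul]
          rw [q4, e2] at tri
          exact absurd (type_ne hs hL tri (isProd_lam hs hL T hl) (by norm_num) le_rfl le_rfl
            (by norm_num)) (by norm_num)
        rcases eq_or_ne l b with e' | hlb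
        · subst e'
          rw [q4, mul_assoc, lam_sq hs hL T hl, mul_one] at tri
          exact absurd (type_ne hs hL tri (isProd_lam hs hL T hk) (by norm_num) le_rfl le_rfl
            (by norm_num)) (by norm_num)
        have h4 : Factor.Rel 4 E := (Factor.M22_core hs.hE hs.h22).2.1.mono (by norm_num)
        have pn := @p_ne C _ _ X _ _ p z E L hs hL T
        have pc : ∀ {q r}, q ∈ Lam p L T → r ∈ Lam p L T → Commute (p q) (p r) :=
          fun hq hr => (lam_comm hs hL T hq hr).map p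
        have distinct : ∀ q, q ∈ Lam p L T → q = k ∨ q = l → q ≠ c ∧ q ≠ e ∧ q ≠ a := by
          intro q hq hqkl
          by_contra hcon
          have hsh : p q = p c ∨ p q = p e ∨ p q = p a := by
            by_contra h'
            exact hcon ⟨fun e'' => h' (Or.inl (congrArg p e'')),
              fun e'' => h' (Or.inr (Or.inl (congrArg p e''))),
              fun e'' => h' (Or.inr (Or.inr (congrArg p e'')))⟩
          have key : ∀ r, r ∈ Lam p L T → q ≠ r → q ≠ b → r ≠ b →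
              p c * p e * p a = p q * p r * p b → False := by
            intro r hr' n1 n2 n3 he4
            have := (Factor.triple_eq_of_mem hs.hE h4 (hL.mem c hc.1) (hL.mem e he.1)
              (hL.mem a ha.1) (hL.mem r hr'.1) (hL.mem b hb.1) (hL.mem q hq.1)
              (pn hc he hce) (pn hc ha hac.symm) (pn he ha hae.symm) (pn hq hr' n1)
              (pn hq hb n2) (pn hr' hb n3) (pc hc he) (pc hc ha) (pc he ha) (pc hq hr')
              (pc hq hb) (pc hr' hb) he4 hsh (p b)).2 (Or.inr (Or.inr rfl))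
            rcases this with e'' | e'' | e''
            exacts [pn hb hc hbc e'', pn hb he hbe e'', pn hb ha hab.symm e'']
          rcases hqkl with rfl | rfl
          · exact key l hl hkl hkb hlb (by rw [← map_mul, ← map_mul, q4, map_mul, map_mul])
          · exact key k hk hkl.symm hlb hkb (by
              rw [← map_mul, ← map_mul, q4, map_mul, map_mul, (pc hk hq).eq])
        have dk := distinct k hk (Or.inl rfl)
        have dl := distinct l hl (Or.inr rfl)
        have hnd : [c, e, a, k, l, b].Nodup := by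
          simp [hce, hac.symm, hae.symm, hbc.symm, hbe.symm, hab, hkl, hkb, hlb, dk.1.symm,
            dk.2.1.symm, dk.2.2.symm, dl.1.symm, dl.2.1.symm, dl.2.2.symm]
        have hall : ∀ q ∈ [c, e, a, k, l, b], q ∈ Lam p L T := by
          simp only [List.mem_cons, List.not_mem_nil, or_false]
          rintro q (rfl | rfl | rfl | rfl | rfl | rfl) <;> assumption
        have hp1 : p [c, e, a, k, l, b].prod = 1 := by
          rw [show [c, e, a, k, l, b].prod = c * e * a * (k * l * b) by simp [mul_assoc],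
            map_mul, ← q4, ← map_mul]
          rw [((lam_comm hs hL T hc ha).mul_left (lam_comm hs hL T he ha)).symm.mul_mul_mul_comm,
            (lam_comm hs hL T hc he).symm.mul_mul_mul_comm, lam_sq hs hL T hc, lam_sq hs hL T he,
            lam_sq hs hL T ha, one_mul, one_mul, map_one]
        have h6 := hL.hex _ hnd rfl (fun q hq => (hall q hq).1)
          (fun q hq q' hq' => lam_comm hs hL T (hall q hq) (hall q' hq')) hp1
        simp only [List.prod_cons, List.prod_nil, mul_one] at h6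
        -- so the product of the four is a product of two
        have e4 : c * e * a * b = k * l := by
          have h' : z * (c * e * (a * b)) = z * (k * l) :=
            ((mul_assoc z (c * e) (a * b)).symm.trans hwdef.symm).trans h
          rw [← mul_left_cancel h']; simp only [mul_assoc]
        apply hs.ne
        rw [← h6]
        have hkl2 : (k * l) * (k * l) = 1 := by
          rw [(lam_comm hs hL T hk hl).symm.mul_mul_mul_comm, lam_sq hs hL T hk,
            lam_sq hs hL T hl, one_mul]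
        calc c * (e * (a * (k * (l * b)))) = c * e * a * (k * l * b) := by simp only [mul_assoc]
          _ = c * e * a * (b * (k * l)) := by
            rw [((lam_comm hs hL T hk hb).mul_left (lam_comm hs hL T hl hb)).eq]
          _ = c * e * a * b * (k * l) := by simp only [mul_assoc]
          _ = 1 := by rw [e4, hkl2]
    have := (Set.ncard_le_ncard hsub (Set.toFinite _)).trans ((Set.ncard_union_le _ _).trans
      (Nat.add_le_add_right ((Set.ncard_union_le _ _).trans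
        (Nat.add_le_add_right (Set.ncard_union_le _ _) _)) _))
    rw [Set.ncard_singleton, ncard_lam hs hL T, card1, card1] at this
    omega

/-- There are 23 members. -/
theorem ncard_eq (hne : ∃ y ∈ Δ, y ≠ z) : Δ.ncard = 23 := by
  obtain ⟨t1, t1', t2, t3, h1, h1', h2, h3, hn⟩ := ncard_formula hs hL T hΔ
  have hd := (dvd_aut hs T hΔ (card_AA hs hL T) (elementary_AA hs hL T)).1
  have hne1 : Δ.ncard ≠ 1 := fun e => by
    obtain ⟨w, hw⟩ := Set.ncard_eq_one.1 e
    obtain ⟨y, hy, hyz⟩ := hne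
    have hz := hΔ.base
    rw [hw, Set.mem_singleton_iff] at hy hz
    exact hyz (hy.trans hz.symm)
  rw [hn] at hd hne1 ⊢
  rcases h3 with ⟨rfl, h3⟩ | ⟨rfl, -⟩
  swap
  · exfalso
    rcases h1 with ⟨rfl, -⟩ | ⟨rfl, -⟩ <;> rcases h1' with ⟨rfl, -⟩ | ⟨rfl, -⟩ <;>
      rcases h2 with ⟨rfl, -⟩ | ⟨rfl, -⟩ <;> norm_num [Finset.prod_range_succ] at hd
  rcases h2 with ⟨rfl, h2⟩ | ⟨rfl, h2⟩
  · rcases h1 with ⟨rfl, h1⟩ | ⟨rfl, h1⟩ <;> rcases h1' with ⟨rfl, h1'⟩ | ⟨rfl, h1'⟩
    · omega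
    · rfl
    · rfl
    · exfalso
      refine no_45 hs hL T hΔ h1 (fun y hy => ?_) h1'
      rcases cases_AA hs hL T (hΔ.sub y hy) with e | e | e | e | e | e | e
      · exact absurd (e ▸ hy) (one_notMem hs T hΔ)
      · exact Or.inl e
      · exact Or.inr (Or.inl e)
      · exact Or.inr (Or.inr e)
      · exact absurd hy (pair_notMem hs hL T hΔ e)
      · exact absurd (by rwa [z_mul_z_mul hs]) (h2 _ e)
      · exact absurd hy (h3 _ e)
  · exfalso
    rcases h1 with ⟨rfl, h1⟩ | ⟨rfl, h1⟩ <;> rcases h1' with ⟨rfl, h1'⟩ | ⟨rfl, h1'⟩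
    · norm_num [Finset.prod_range_succ] at hd
    · -- exchange the two classes of lifts
      have hL' := hL.twist hs
      have hlam : ∀ y, y ∈ Lam p ((z * ·) '' L) T ↔ z * y ∈ Lam p L T := by
        intro y
        constructor
        · rintro ⟨⟨x, hx, rfl⟩, ht⟩
          rw [z_mul_z_mul hs]
          exact ⟨hx, by rwa [p_z_mul hs] at ht⟩
        · rintro ⟨hx, ht⟩
          exact ⟨⟨_, hx, z_mul_z_mul hs y⟩, by rwa [p_z_mul hs] at ht⟩
      have hpair : ∀ y, y ∈ Pair p ((z * ·) '' L) T → y ∈ Pair p L T := by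
        rintro _ ⟨a, ha, b, hb, hab, rfl⟩
        refine ⟨_, (hlam a).1 ha, _, (hlam b).1 hb, fun e => hab (mul_left_cancel e), ?_⟩
        rw [(hs.cen a).symm.mul_mul_mul_comm, hs.sq, one_mul]
      have htriple : ∀ y, y ∈ Triple p ((z * ·) '' L) T → y ∈ Triple p L T := by
        rintro _ ⟨a, ha, b, hb, c, hc, hab, hac, hbc, rfl⟩
        have h := z_mul_triple hs hL T ⟨_, (hlam a).1 ha, _, (hlam b).1 hb, _, (hlam c).1 hc,
          fun e => hab (mul_left_cancel e), fun e => hac (mul_left_cancel e),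
          fun e => hbc (mul_left_cancel e), rfl⟩
        rw [(hs.cen a).symm.mul_mul_mul_comm, hs.sq, one_mul, ← mul_assoc (a * b) z c,
          ← (hs.cen (a * b)).eq, mul_assoc z, z_mul_z_mul hs] at h
        exact h
      refine no_254 hs hL' T hΔ (fun x hx => ?_) (fun x hx => h1 _ ((hlam x).1 hx))
        (fun x hx => h2 x (hpair x hx)) (fun x hx => h3 x (htriple x hx)) (by rw [hn])
      have := h1' _ ((hlam x).1 hx)
      rwa [z_mul_z_mul hs] at this
    · exact no_254 hs hL T hΔ h1 h1' h2 h3 (by rw [hn])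
    · exact no_276 hs hL T hΔ h1 h1' h2 h3

end Cfsg.Agent.GenA.Heptad
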