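import Cfsg.Agent.Lib.FiMult.Fi22Main
import Cfsg.Agent.InvChar.Coset.Fi23Class
import Cfsg.Agent.Lib.ThreeTransp.Fi22Model.Type
import Cfsg.Agent.Lib.ThreeTransp.M22.Unique
import Cfsg.Agent.Lib.ThreeTransp.M22.Involutions

/-!
Facts about the double cover of Fi22 sitting as an involution centraliser in Fi23: two perfect
double covers of Fi22 are isomorphic over Fi22, and six commuting lifts of members with product
one modulo the centre multiply to the central involution.
-/

set_option autoImplicit false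
set_option maxRecDepth 10000

noncomputable section

namespace Cfsg.Agent.GenA.Heptad

open Cfsg
open Cfsg.Agent.ThreeTransp
open scoped commutatorElement

/-- In a set of 3-transpositions, a commuting pair whose product is again a member is commuted
with by every member. -/
theorem triangle {G : Type*} [Group G] {D : Set G} (hD : Cfsg.IsThreeTranspositionSet D)
    {a b w : G} (ha : a ∈ D) (hb : b ∈ D) (hw : w ∈ D) (hc : a * b ∈ D) (hab : Commute a b) :
    Commute w a := by
  by_contra hwa
  have a2 := Basic.sq hD ha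
  have b2 := Basic.sq hD hb
  have br : ∀ {e : G}, e ∈ D → ¬ Commute w e → w * e * w = e * w * e := fun he h =>
    Basic.braid hD hw he h
  have hbne : b ≠ 1 := fun e => by
    have := hD.1 b hb
    rw [e, orderOf_one] at this
    omega
  -- a member commuting with exactly one of the other two
  have one : ∀ e f : G, e ∈ D → f ∈ D → a * e = f → Commute a e → Commute w e → e * e = 1 →
      e ≠ 1 → False := by
    intro e f he hf hef cae cwe e2 ene
    have hwf : ¬ Commute w f := fun h => hwa (by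
      have h' := h.mul_right cwe
      rwa [← hef, mul_assoc, e2, mul_one] at h')
    have h1 := br hf hwf
    have h2 := br ha hwa
    apply ene
    have hl : w * f * w = a * w * a * e := by
      rw [← h2, ← hef]
      simp only [mul_assoc]
      rw [cwe.eq]
    have hr : f * w * f = a * w * a := by
      rw [← hef]
      calc a * e * w * (a * e) = a * (e * w) * (e * a) := by
            rw [show a * e * w * (a * e) = a * (e * w) * (a * e) by simp only [mul_assoc]]
            rw [cae.eq]
        _ = a * w * (e * e) * a := by rw [← cwe.eq]; simp only [mul_assoc]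
        _ = a * w * a := by rw [e2, mul_one]
    rw [h1, hr] at hl
    exact mul_eq_left.1 hl.symm
  by_cases hwb : Commute w b
  · exact one b (a * b) hb hc rfl hab hwb b2 hbne
  by_cases hwc : Commute w (a * b)
  · refine one (a * b) b hc hb (by rw [← mul_assoc, a2, one_mul])
      ((Commute.refl a).mul_right hab) hwc (Basic.sq hD hc) fun e => ?_
    have := hD.1 _ hc
    rw [e, orderOf_one] at this
    omega
  have h1 := br hc hwc
  have h2 := br ha hwa
  have h3 := br hb hwb
  -- both sides of the braid relation of `w` and the product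
  have hl : w * (a * b) * w = a * w * a * (b * w * b) := by
    rw [← h2, ← h3]
    have w2 := Basic.sq hD hw
    simp only [mul_assoc]
    rw [← mul_assoc w w, w2, one_mul]
  have hr : a * b * w * (a * b) = a * (w * b * w) * a := by
    rw [h3]
    calc a * b * w * (a * b) = a * b * w * (b * a) := by rw [hab.eq]
      _ = _ := by simp only [mul_assoc]
  rw [h1, hr, h3] at hl
  -- cancel on both sides
  have e1 : b * w * a = a * b * w * (a * b) := by
    have e2 : b * w * b * a = w * a * (b * w * b) := mul_left_cancel (a := a) (by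
      simpa only [mul_assoc] using hl)
    have e3 : w * a * (b * w * b) = w * b * a * w * b := by
      simp only [mul_assoc]
      rw [← mul_assoc a b, hab.eq, mul_assoc]
    have e4 : b * w * a * b = w * b * a * w * b := by
      rw [← e3, ← e2]
      simp only [mul_assoc]
      rw [hab.eq]
    have e5 : b * w * a = w * b * a * w := mul_right_cancel e4
    rw [e5, show w * b * a * w = w * (a * b) * w by rw [hab.eq]; simp only [mul_assoc], h1]
  have e6 : w * a = a * w * a * b := mul_left_cancel (a := b) (by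
    rw [← mul_assoc, e1]
    calc a * b * w * (a * b) = b * a * w * (a * b) := by rw [hab.eq]
      _ = _ := by simp only [mul_assoc])
  rw [← h2] at e6
  have e7 : w * b = 1 := by
    have : w * a * (w * b) = w * a := by rw [← mul_assoc]; exact e6.symm
    exact mul_eq_left.1 this
  exact hwb ((eq_inv_of_mul_eq_one_left e7) ▸ (Commute.refl b).inv_left)

open Cfsg.Agent.InvChar.Coset in
/-- Two perfect double covers of Fi22 are isomorphic over it. -/
theorem covers_iso {A B : Type} [Group A] [Finite A] [Group B] [Finite B]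
    (σ : A →* Spor.Fi22) (τ : B →* Spor.Fi22) (hσ : Function.Surjective σ)
    (hτ : Function.Surjective τ) (hA : commutator A = ⊤) (hB : commutator B = ⊤)
    (cA : σ.ker ≤ Subgroup.center A) (cB : τ.ker ≤ Subgroup.center B)
    (nA : Nat.card σ.ker = 2) (nB : Nat.card τ.ker = 2) :
    ∃ θ : A ≃* B, ∀ x, τ (θ x) = σ x := by
  haveI := FiUnit.finite_Fi
  let P : Subgroup (A × B) := MonoidHom.eqLocus (σ.comp (MonoidHom.fst A B)) (τ.comp (MonoidHom.snd A B))
  let R : Subgroup (A × B) := ⁅P, P⁆
  have hRP : R ≤ P := Subgroup.commutator_le.2 fun x hx y hy =>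
    mul_mem (mul_mem (mul_mem hx hy) (inv_mem hx)) (inv_mem hy)
  have mem : ∀ x ∈ P, σ x.1 = τ x.2 := fun x hx => hx
  have m1 : P.map (MonoidHom.fst A B) = ⊤ := by
    refine eq_top_iff.2 fun a _ => ?_
    obtain ⟨b, hb⟩ := hτ (σ a)
    exact ⟨(a, b), hb.symm, rfl⟩
  have m2 : P.map (MonoidHom.snd A B) = ⊤ := by
    refine eq_top_iff.2 fun b _ => ?_
    obtain ⟨a, ha⟩ := hσ (τ b)
    exact ⟨(a, b), ha, rfl⟩
  have r1 : R.map (MonoidHom.fst A B) = ⊤ := by
    rw [Subgroup.map_commutator, m1, ← commutator_def, hA]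
  have r2 : R.map (MonoidHom.snd A B) = ⊤ := by
    rw [Subgroup.map_commutator, m2, ← commutator_def, hB]
  have cen : ∀ x ∈ P, σ x.1 = 1 → x ∈ Subgroup.center (A × B) := by
    intro x hx h1
    rw [Subgroup.mem_center_iff]
    intro y
    exact Prod.ext (Subgroup.mem_center_iff.1 (cA h1) y.1)
      (Subgroup.mem_center_iff.1 (cB ((mem x hx).symm.trans h1)) y.2)
  have dec : ∀ x ∈ P, ∃ d ∈ R, ∃ k ∈ Subgroup.center (A × B), x = d * k := by
    intro x hx
    obtain ⟨d, hd, hdx⟩ := Subgroup.mem_map.1 (r1 ▸ Subgroup.mem_top x.1 :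
      x.1 ∈ R.map (MonoidHom.fst A B))
    have hdP := hRP hd
    refine ⟨d, hd, d⁻¹ * x, cen _ (mul_mem (inv_mem hdP) hx) ?_, (mul_inv_cancel_left d x).symm⟩
    show σ (d.1⁻¹ * x.1) = 1
    rw [show d.1 = x.1 from hdx, inv_mul_cancel, map_one]
  have hperf : ⁅R, R⁆ = R := by
    refine le_antisymm (Subgroup.commutator_mono hRP hRP) (Subgroup.commutator_le.2 ?_)
    intro x hx y hy
    obtain ⟨d, hd, k, hk, rfl⟩ := dec x hx
    obtain ⟨d', hd', k', hk', rfl⟩ := dec y hy
    have c1 := Subgroup.mem_center_iff.1 hk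
    have c2 := Subgroup.mem_center_iff.1 hk'
    have : ⁅d * k, d' * k'⁆ = ⁅d, d'⁆ := by
      simp only [commutatorElement_def]
      calc d * k * (d' * k') * (d * k)⁻¹ * (d' * k')⁻¹
          = d * (k * d') * (k' * k⁻¹) * d⁻¹ * k'⁻¹ * d'⁻¹ := by group
        _ = d * d' * (k * k' * k⁻¹) * d⁻¹ * k'⁻¹ * d'⁻¹ := by rw [← c1 d']; group
        _ = d * d' * (k' * d⁻¹) * k'⁻¹ * d'⁻¹ := by rw [← c1 k']; group
        _ = d * d' * d⁻¹ * d'⁻¹ := by rw [← c2 d⁻¹]; group
    rw [this]
    exact Subgroup.commutator_mem_commutator hd hd'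
  let f : ↥R →* A := (MonoidHom.fst A B).comp R.subtype
  let g : ↥R →* B := (MonoidHom.snd A B).comp R.subtype
  let ρ : ↥R →* Spor.Fi22 := σ.comp f
  have fs : Function.Surjective f := fun a => by
    obtain ⟨d, hd, hdx⟩ := Subgroup.mem_map.1 (r1 ▸ Subgroup.mem_top a :
      a ∈ R.map (MonoidHom.fst A B))
    exact ⟨⟨d, hd⟩, hdx⟩
  have gs : Function.Surjective g := fun b => by
    obtain ⟨d, hd, hdx⟩ := Subgroup.mem_map.1 (r2 ▸ Subgroup.mem_top b :
      b ∈ R.map (MonoidHom.snd A B))
    exact ⟨⟨d, hd⟩, hdx⟩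
  have hst : Cfsg.IsStemExtension ρ := by
    refine ⟨hσ.comp fs, fun x hx => ?_, fun x _ => ?_⟩
    · rw [Subgroup.mem_center_iff]
      exact fun y => Subtype.ext (Subgroup.mem_center_iff.1 (cen x (hRP x.2) hx) y)
    · have h : (commutator ↥R).map R.subtype = R := by
        rw [commutator_def, Subgroup.map_commutator, ← MonoidHom.range_eq_map,
          Subgroup.range_subtype, hperf]
      have hx : (x : A × B) ∈ (commutator ↥R).map R.subtype := h.symm ▸ x.2
      obtain ⟨y, hy, hyx⟩ := hx
      exact Subtype.ext hyx ▸ hy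
  obtain ⟨π, hπ⟩ := Lib.FiMult.Fi22.mult_six.2 ↥R ρ hst
  haveI : IsCyclic (Multiplicative (ZMod 6)) := inferInstance
  haveI : IsCyclic ↥ρ.ker := isCyclic_of_surjective π hπ
  have sqA : ∀ a : A, σ a = 1 → a ^ 2 = 1 := fun a ha => by
    have := pow_card_eq_one' (x := (⟨a, ha⟩ : σ.ker))
    rw [nA] at this
    exact congrArg Subtype.val this
  have sqB : ∀ b : B, τ b = 1 → b ^ 2 = 1 := fun b hb => by
    have := pow_card_eq_one' (x := (⟨b, hb⟩ : τ.ker))
    rw [nB] at this
    exact congrArg Subtype.val this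
  have hk2 : Nat.card ρ.ker ≤ 2 := by
    rw [← IsCyclic.exponent_eq_card]
    refine Nat.le_of_dvd (by norm_num) (Monoid.exponent_dvd_of_forall_pow_eq_one fun x => ?_)
    have h1 : σ (x : ↥R).1.1 = 1 := x.2
    exact Subtype.ext (Subtype.ext (Prod.ext (sqA _ h1)
      (sqB _ ((mem _ (hRP (x : ↥R).2)).symm.trans h1))))
  have cardR : Nat.card ↥R ≤ 2 * Nat.card Spor.Fi22 := by
    rw [Subgroup.card_eq_card_quotient_mul_card_subgroup ρ.ker,
      Nat.card_congr (QuotientGroup.quotientKerEquivOfSurjective ρ (hσ.comp fs)).toEquiv, mul_comm]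
    exact Nat.mul_le_mul_right _ hk2
  have card_of : ∀ {E : Type} [Group E] (ξ : E →* Spor.Fi22), Function.Surjective ξ →
      Nat.card ξ.ker = 2 → Nat.card E = 2 * Nat.card Spor.Fi22 := fun ξ hξ n => by
    rw [Subgroup.card_eq_card_quotient_mul_card_subgroup ξ.ker,
      Nat.card_congr (QuotientGroup.quotientKerEquivOfSurjective ξ hξ).toEquiv, n, mul_comm]
  have fb : Function.Bijective f :=
    fs.bijective_of_nat_card_le ((card_of σ hσ nA).symm ▸ cardR)
  have gb : Function.Bijective g :=
    gs.bijective_of_nat_card_le ((card_of τ hτ nB).symm ▸ cardR)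
  refine ⟨(MulEquiv.ofBijective f fb).symm.trans (MulEquiv.ofBijective g gb), fun x => ?_⟩
  obtain ⟨r, rfl⟩ := fs x
  show τ (g ((MulEquiv.ofBijective f fb).symm (f r))) = σ (f r)
  rw [show (MulEquiv.ofBijective f fb).symm (f r) = r from
    (MulEquiv.ofBijective f fb).symm_apply_apply r]
  exact (mem _ (hRP r.2)).symm

namespace Model

open Cfsg.Agent.InvChar.Coset Cfsg.Agent.InvChar.Coset.Fi23G Cfsg.Agent.CosetCert

/-- The six-fold products of members of the class are nontrivial and the class meets the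
centraliser as expected. -/
theorem exists_model :
    ∃ (B : Type) (_ : Group B) (_ : Finite B) (τ : B →* Spor.Fi22) (zB : B) (L : Set B),
      Function.Surjective τ ∧ commutator B = ⊤ ∧ τ.ker ≤ Subgroup.center B ∧ Nat.card τ.ker = 2 ∧
      τ zB = 1 ∧ zB ≠ 1 ∧
      (∀ g : B, ∀ x ∈ L, g * x * g⁻¹ ∈ L) ∧ (∀ x ∈ L, τ x ∈ Fi22Model.DD) ∧
      (∀ q ∈ Fi22Model.DD, ∃ x ∈ L, τ x = q) ∧
      (∀ x ∈ L, ∀ y ∈ L, τ x = τ y → x = y) ∧
      (∀ x ∈ L, ∀ y ∈ L, Commute x y ∨ x * y * x = y * x * y) ∧
      (∀ l : List B, l.Nodup → l.length = 6 → (∀ x ∈ l, x ∈ L) →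
        (∀ x ∈ l, ∀ y ∈ l, Commute x y) → τ l.prod = 1 → l.prod = zB) := by
  haveI := FiUnit.finite_Fi
  haveI := Fi22B.simple_and_card.1
  haveI : Finite GG := finite_GG
  obtain ⟨hcen, ⟨e⟩, hns⟩ := double_cover_HH
  have hzH : z ∈ HH := centralizer_z ▸ Subgroup.mem_centralizer_singleton_iff.2 rfl
  set zB : ↥HH := ⟨z, hzH⟩ with hzB
  set τ : ↥HH →* Spor.Fi22 := e.toMonoidHom.comp (QuotientGroup.mk' (Subgroup.center ↥HH)) with hτ
  have hτs : Function.Surjective τ := e.surjective.comp (QuotientGroup.mk'_surjective _)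
  have hker : τ.ker = Subgroup.center ↥HH := by
    rw [hτ, ← MonoidHom.comap_ker, (MonoidHom.ker_eq_bot_iff _).2 e.injective,
      MonoidHom.comap_bot, QuotientGroup.ker_mk']
  have zc : zB ∈ Subgroup.center ↥HH :=
    Subgroup.mem_center_iff.2 fun g => Subtype.ext (z_comm g.2).symm
  have zne : zB ≠ 1 := fun h => z_ne (congrArg Subtype.val h)
  have ker2 : ∀ b : ↥HH, τ b = 1 → b = 1 ∨ b = zB := by
    intro b hb
    rw [← MonoidHom.mem_ker, hker] at hb
    obtain ⟨x, -, hu⟩ := (Nat.card_eq_two_iff' (1 : Subgroup.center ↥HH)).1 hcen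
    by_cases h1 : b = 1
    · exact Or.inl h1
    · exact Or.inr (congrArg Subtype.val ((hu ⟨b, hb⟩ fun h => h1 (congrArg Subtype.val h)).trans
        (hu ⟨zB, zc⟩ fun h => zne (congrArg Subtype.val h)).symm))
  have hτz : τ zB = 1 := by rw [← MonoidHom.mem_ker, hker]; exact zc
  have hB : commutator ↥HH = ⊤ := by
    refine Lib.FiMult.perfect_of_stem (σ := τ) ?_ hτs Lib.FiMult.Fi22.perfect
    rw [hker]
    intro x hx
    by_contra hxc
    refine hns (commutator ↥HH) (Subgroup.isComplement'_of_disjoint_and_mul_eq_univ ?_ ?_)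
    · rw [disjoint_iff_inf_le]
      intro y hy
      rcases ker2 y (by rw [← MonoidHom.mem_ker, hker]; exact hy.1) with rfl | rfl
      · exact one_mem _
      · rcases ker2 x (by rw [← MonoidHom.mem_ker, hker]; exact hx) with rfl | rfl
        · exact absurd (one_mem _) hxc
        · exact absurd hy.2 hxc
    · refine Set.eq_univ_of_forall fun u => ?_
      have hu : τ u ∈ (commutator ↥HH).map τ := by
        rw [commutator_def, Subgroup.map_commutator, Subgroup.map_top_of_surjective _ hτs,
          ← commutator_def, Lib.FiMult.Fi22.perfect]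
        exact Subgroup.mem_top _
      obtain ⟨v, hv, ev⟩ := hu
      refine ⟨u * v⁻¹, ?_, v, hv, inv_mul_cancel_right u v⟩
      show u * v⁻¹ ∈ Subgroup.center ↥HH
      rw [← hker, MonoidHom.mem_ker, map_mul, map_inv, ev, mul_inv_cancel]
  have hcls := transposition_class
  set L : Set ↥HH := {x | (x : GG) ∈ conjugatesOf z ∧ x ≠ zB} with hL
  have Lconj : ∀ g : ↥HH, ∀ x ∈ L, g * x * g⁻¹ ∈ L := by
    rintro g x ⟨hx, hxz⟩
    refine ⟨?_, fun h => hxz ?_⟩
    · obtain ⟨k, hk⟩ := isConj_iff.1 hx
      exact isConj_iff.2 ⟨(g : GG) * k, by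
        simp only [Subgroup.coe_mul, Subgroup.coe_inv, ← hk]; group⟩
    · calc x = g⁻¹ * (g * x * g⁻¹) * g := by group
        _ = g⁻¹ * (zB * g) := by rw [h, mul_assoc]
        _ = zB := by rw [← Subgroup.mem_center_iff.1 zc g, inv_mul_cancel_left]
  have ord : ∀ x ∈ L, τ x ≠ 1 ∧ x * x = 1 := by
    rintro x ⟨hx, hxz⟩
    refine ⟨fun h => ?_, Subtype.ext (Basic.sq hcls.1 hx)⟩
    rcases ker2 x h with rfl | rfl
    · have := hcls.1.1 _ hx
      rw [OneMemClass.coe_one, orderOf_one] at this
      omega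
    · exact hxz rfl
  have braid : ∀ x ∈ L, ∀ y ∈ L, Commute x y ∨ x * y * x = y * x * y := by
    intro x hx y hy
    by_cases h : Commute (x : GG) y
    · exact Or.inl (Subtype.ext h)
    · exact Or.inr (Subtype.ext (Basic.braid hcls.1 hx.1 hy.1 h))
  -- nonemptiness
  obtain ⟨y₀, hy₀⟩ : L.Nonempty := by
    set R := el (rootWord 2) with hR
    set y := R * z * R⁻¹ with hy
    have hp30 : ∀ t ∈ pairW 2, t < 30 := fun t ht => (pair_lt 2 t ht).trans (by norm_num)
    have h2 : el (pairW 2) ^ 2 = 1 := by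
      apply φ_injective
      rw [← wprod_pow, map_one, φ_same (b := []) (fun t ht => ?_) (by simp)
        ((TreePerm.Same.rep below hp30 ((pair_same 2).trans
          (same_eqn (a := [19]) (by decide +kernel)).symm) 2).trans (same_eqn (by decide +kernel)))]
      · exact map_one φ
      · obtain ⟨v, hv, htv⟩ := List.mem_flatten.mp ht
        rw [List.eq_of_mem_replicate hv] at htv
        exact pair_lt 2 t htv
    rw [pair_eq, ← hR, ← hy] at h2
    have yz : y * z = z * y := by
      have y2 : y * y = 1 := by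
        rw [hy, show R * z * R⁻¹ * (R * z * R⁻¹) = R * (z * z) * R⁻¹ by group, z_sq]; group
      rw [pow_two] at h2
      rw [eq_inv_of_mul_eq_one_left h2, mul_inv_rev, inv_eq_of_mul_eq_one_left z_sq,
        inv_eq_of_mul_eq_one_left y2]
    have hyH : y ∈ HH := centralizer_z ▸ Subgroup.mem_centralizer_singleton_iff.2 yz
    refine ⟨⟨y, hyH⟩, isConj_iff.2 ⟨R, rfl⟩, fun h => ?_⟩
    have hyz : R * z * R⁻¹ = z := congrArg Subtype.val h
    have hRH : R ∈ HH := centralizer_z ▸
      Subgroup.mem_centralizer_singleton_iff.2 (mul_inv_eq_iff_eq_mul.1 hyz)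
    have hfix := H_fix0 hRH
    rw [hR, rootWord_run (by norm_num)] at hfix
    exact absurd (congrArg (fun c : Fin 31671 => orbits.label c) hfix) (by decide +kernel)
  -- the image is the class
  have image : ∀ x ∈ L, conjugatesOf (τ x) = Fi22Model.DD := by
    intro x hx
    have conjL : ∀ q ∈ conjugatesOf (τ x), ∃ y ∈ L, τ y = q := by
      intro q hq
      obtain ⟨g, rfl⟩ := isConj_iff.1 hq
      obtain ⟨g, rfl⟩ := hτs g
      exact ⟨_, Lconj g x hx, by rw [map_mul, map_mul, map_inv]⟩
    refine M22.unique_class Fi22Model.grp Fi22Model.primitive Fi22Model.type22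
      ⟨⟨fun q hq => ?_, fun q hq q' hq' => ?_⟩, ⟨τ x, mem_conjugatesOf_self, rfl⟩, ?_⟩
      fun t ht => M22.exists_prod Fi22Model.grp Fi22Model.primitive Fi22Model.type22 ht
    · obtain ⟨y, hy, rfl⟩ := conjL q hq
      haveI : Fact (Nat.Prime 2) := ⟨Nat.prime_two⟩
      exact orderOf_eq_prime (by rw [pow_two, ← map_mul, (ord y hy).2, map_one]) (ord y hy).1
    · obtain ⟨y, hy, rfl⟩ := conjL q hq
      obtain ⟨y', hy', rfl⟩ := conjL q' hq'
      rw [← map_mul, ← map_pow, ← map_pow]
      rcases hcls.1.2 _ hy.1 _ hy'.1 with h | h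
      · exact Or.inl (by rw [show (y * y') ^ 2 = 1 from Subtype.ext h, map_one])
      · exact Or.inr (by rw [show (y * y') ^ 3 = 1 from Subtype.ext h, map_one])
    · have h : Subgroup.closure (conjugatesOf (τ x)) = Subgroup.normalClosure {τ x} := by
        rw [Subgroup.normalClosure]
        congr 1
        ext d
        simp [Group.conjugatesOfSet]
      rw [h]
      rcases IsSimpleGroup.eq_bot_or_eq_top_of_normal (Subgroup.normalClosure ({τ x} : Set _))
        inferInstance with h1 | h1
      · have := Subgroup.subset_normalClosure (Set.mem_singleton (τ x))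
        rw [h1] at this
        exact absurd (Subgroup.mem_bot.1 this) (ord x hx).1
      · exact h1
  have Lmem : ∀ x ∈ L, τ x ∈ Fi22Model.DD := fun x hx => image x hx ▸ mem_conjugatesOf_self
  have Lsurj : ∀ q ∈ Fi22Model.DD, ∃ x ∈ L, τ x = q := by
    intro q hq
    rw [← image y₀ hy₀] at hq
    obtain ⟨g, rfl⟩ := isConj_iff.1 hq
    obtain ⟨g, rfl⟩ := hτs g
    exact ⟨_, Lconj g y₀ hy₀, by rw [map_mul, map_mul, map_inv]⟩
  have Linj : ∀ x ∈ L, ∀ y ∈ L, τ x = τ y → x = y := by
    intro x hx y hy he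
    rcases ker2 (x⁻¹ * y) (by rw [map_mul, map_inv, he, inv_mul_cancel]) with h | h
    · exact inv_mul_eq_one.1 h
    exfalso
    have hxy : (x : GG) * z = y := by
      rw [inv_mul_eq_iff_eq_mul] at h
      exact (congrArg Subtype.val h).symm
    have hcz : ∀ w ∈ conjugatesOf z, Commute w z := fun w hw => by
      refine triangle hcls.1 (mem_conjugatesOf_self (a := z)) hx.1 hw ?_ (z_comm x.2)
      rw [z_comm x.2, hxy]
      exact hy.1
    have htop : Subgroup.centralizer ({z} : Set GG) = ⊤ := by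
      rw [eq_top_iff, ← hcls.2.2, Subgroup.closure_le]
      exact fun w hw => Subgroup.mem_centralizer_singleton_iff.2 (hcz w hw).eq
    rw [centralizer_z] at htop
    have := index_H
    rw [htop, Subgroup.index_top] at this
    norm_num at this
  refine ⟨↥HH, inferInstance, inferInstance, τ, zB, L, hτs, hB, hker.le,
    by rw [hker]; exact hcen, hτz, zne, Lconj, Lmem, Lsurj, Linj, braid, ?_⟩
  intro l hn hl6 hlL hlc hp
  refine (ker2 _ hp).resolve_left fun h1 => ?_
  obtain ⟨a, t, rfl⟩ := List.exists_cons_of_length_eq_add_one hl6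
  obtain ⟨k, hk⟩ := isConj_iff.1 (hlL a (by simp)).1
  -- move the first of the six to the central involution
  have hka : k⁻¹ * (a : GG) * k = z := by rw [← hk]; group
  let f : ↥HH →* GG := (MulAut.conj k⁻¹).toMonoidHom.comp HH.subtype
  have hfa : f a = z := by
    show k⁻¹ * (a : GG) * k⁻¹⁻¹ = z
    rw [inv_inv, hka]
  have finj : Function.Injective f := (MulAut.conj k⁻¹).injective.comp Subtype.val_injective
  have hmemH : ∀ x ∈ t, f x ∈ HH := fun x hx => centralizer_z.le (by
    rw [Subgroup.mem_centralizer_singleton_iff, ← hfa]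
    exact ((hlc x (by simp [hx]) a (by simp)).map f).eq)
  let t' : List ↥HH := t.attach.map fun x => ⟨f x.1, hmemH x.1 x.2⟩
  have hv : t'.map Subtype.val = t.map f := by
    simp only [t', List.map_map]
    show t.attach.map (fun x => f x.1) = t.map f
    exact List.attach_map_val ..
  rw [List.nodup_cons] at hn
  have htL : ∀ y ∈ t', y ∈ L := by
    intro y hy
    obtain ⟨x, -, rfl⟩ := List.mem_map.1 hy
    refine ⟨?_, fun h => hn.1 ?_⟩
    · obtain ⟨m, hm⟩ := isConj_iff.1 (hlL x.1 (by simp [x.2])).1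
      refine isConj_iff.2 ⟨k⁻¹ * m, ?_⟩
      show k⁻¹ * m * z * (k⁻¹ * m)⁻¹ = k⁻¹ * ((x.1 : ↥HH) : GG) * k⁻¹⁻¹
      rw [← hm]; group
    · have h' : f x.1 = f a := (congrArg Subtype.val h).trans hfa.symm
      exact finj h' ▸ x.2
  have htc : ∀ y ∈ t', ∀ y' ∈ t', Commute y y' := by
    intro y hy y' hy'
    obtain ⟨x, -, rfl⟩ := List.mem_map.1 hy
    obtain ⟨x', -, rfl⟩ := List.mem_map.1 hy'
    exact Subtype.ext ((hlc x.1 (by simp [x.2]) x'.1 (by simp [x'.2])).map f)
  have htp : τ t'.prod = 1 := by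
    have e1 : ((t'.prod : ↥HH) : GG) = z := by
      rw [SubmonoidClass.coe_list_prod, hv, ← map_list_prod]
      have h := congrArg f h1
      rw [List.prod_cons, map_mul, hfa, map_one] at h
      rw [eq_inv_of_mul_eq_one_right h, inv_eq_of_mul_eq_one_left z_sq]
    rw [show t'.prod = zB from Subtype.ext e1, hτz]
  have htn : t'.Nodup := by
    refine List.Nodup.of_map Subtype.val ?_
    rw [hv]
    exact hn.2.map finj
  refine (Factor.M22_core Fi22Model.grp Fi22Model.type22).2.1 (t'.map τ)
    (htn.map_on fun x hx y hy h => Linj x (htL x hx) y (htL y hy) h) ?_ ?_ ?_ ?_ ?_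
  · simp [t']; simp at hl6; omega
  · simp [t']; simp at hl6; omega
  · intro q hq
    obtain ⟨x, hx, rfl⟩ := List.mem_map.1 hq
    exact Lmem x (htL x hx)
  · intro q hq q' hq'
    obtain ⟨x, hx, rfl⟩ := List.mem_map.1 hq
    obtain ⟨x', hx', rfl⟩ := List.mem_map.1 hq'
    exact (htc x hx x' hx').map τ
  · rw [← map_list_prod, htp]

end Model

end Cfsg.Agent.GenA.Heptad
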