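import Cfsg.Agent.GenA.Heptad.Span
import Cfsg.Agent.Lib.ThreeTransp.M22.DoubleCover
import Cfsg.Agent.Lib.PLocal.ThompsonSubgroup

/-!
A double cover of a group of type M(22) with a chosen class of lifts of the members: the conjugacy
classes inside the preimage of the span of the members of a Sylow 2-subgroup, and the Thompson
subgroup.
-/

set_option autoImplicit false
set_option linter.unusedSectionVars false

namespace Cfsg.Agent.GenA.Heptad

open Cfsg.Agent.ThreeTransp
open Cfsg.Agent.ThreeTransp.M22 (IsProd)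
open Cfsg.Agent.ThreeTransp.Factor (nb)

universe u v

/-- A set of lifts of the members with the properties of the lifts inside the centraliser of a
transposition of Fi23. -/
structure Good {C : Type u} [Group C] {X : Type v} [Group X] (p : C →* X) (z : C) (E : Set X)
    (L : Set C) : Prop where
  conj : ∀ g : C, ∀ x ∈ L, g * x * g⁻¹ ∈ L
  mem : ∀ x ∈ L, p x ∈ E
  surj : ∀ q ∈ E, ∃ x ∈ L, p x = q
  inj : ∀ x ∈ L, ∀ y ∈ L, p x = p y → x = y
  braid : ∀ x ∈ L, ∀ y ∈ L, Commute x y ∨ x * y * x = y * x * y
  hex : ∀ l : List C, l.Nodup → l.length = 6 → (∀ x ∈ l, x ∈ L) →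
    (∀ x ∈ l, ∀ y ∈ l, Commute x y) → p l.prod = 1 → l.prod = z

/-- The standing hypotheses. -/
structure Setup {C : Type u} [Group C] {X : Type v} [Group X] (p : C →* X) (z : C) (E : Set X) :
    Prop where
  hE : Cfsg.IsThreeTranspositionGroup E
  hp : Cfsg.IsPrimitiveUnderConj E
  h22 : Cfsg.IsOfTypeM22 X E
  surj : Function.Surjective p
  sq : z * z = 1
  ne : z ≠ 1
  cen : ∀ c : C, Commute z c
  one : p z = 1
  ker : ∀ c : C, p c = 1 → c = 1 ∨ c = z

/-- The commutation of lifts. -/
theorem Setup.commute {C : Type u} [Group C] {X : Type v} [Group X] [Finite X] {p : C →* X}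
    {z : C} {E : Set X} (hs : Setup p z E) {x y : C} (hx : p x ∈ E) (hy : p y ∈ E)
    (h : Commute (p x) (p y)) : Commute x y :=
  M22.DoubleCover.lift_commute hs.hE hs.hp hs.h22 p hs.surj z hs.sq hs.cen hs.ker hx hy h

/-- Changing the choice of the class of lifts. -/
theorem Good.twist {C : Type u} [Group C] {X : Type v} [Group X] {p : C →* X} {z : C}
    {E : Set X} {L : Set C} (hs : Setup p z E) (h : Good p z E L) :
    Good p z E ((z * ·) '' L) where
  conj := by
    rintro g _ ⟨x, hx, rfl⟩
    refine ⟨_, h.conj g x hx, ?_⟩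
    show z * (g * x * g⁻¹) = g * (z * x) * g⁻¹
    rw [← mul_assoc g z x, ← (hs.cen g).eq]
    simp only [mul_assoc]
  mem := by
    rintro _ ⟨x, hx, rfl⟩
    rw [map_mul, hs.one, one_mul]
    exact h.mem x hx
  surj := fun q hq => by
    obtain ⟨x, hx, rfl⟩ := h.surj q hq
    exact ⟨z * x, ⟨x, hx, rfl⟩, by rw [map_mul, hs.one, one_mul]⟩
  inj := by
    rintro _ ⟨x, hx, rfl⟩ _ ⟨y, hy, rfl⟩ he
    rw [map_mul, map_mul, hs.one, one_mul, one_mul] at he
    rw [h.inj x hx y hy he]
  braid := by
    rintro _ ⟨x, hx, rfl⟩ _ ⟨y, hy, rfl⟩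
    rcases h.braid x hx y hy with e | e
    · exact Or.inl (((Commute.refl z).mul_left (hs.cen x).symm).mul_right
        ((hs.cen y).mul_left e))
    · right
      have aux : ∀ a b : C, z * a * (z * b) * (z * a) = z * (a * b * a) := fun a b => by
        rw [(hs.cen a).symm.mul_mul_mul_comm, hs.sq, one_mul, ← mul_assoc (a * b) z a,
          ← (hs.cen (a * b)).eq, mul_assoc z]
      rw [aux, aux, e]
  hex := by
    intro l hn h6 hl hc hp1
    have cz : ∀ a b : C, Commute a b → Commute (z * a) (z * b) := fun a b e =>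
      (((Commute.refl z).mul_left (hs.cen a).symm).mul_right ((hs.cen b).mul_left e))
    let l' := l.map (z * ·)
    have hzz : ∀ a : C, z * (z * a) = a := fun a => by rw [← mul_assoc, hs.sq, one_mul]
    have hl' : ∀ x ∈ l', x ∈ L := by
      intro x hx
      obtain ⟨y, hy, rfl⟩ := List.mem_map.1 hx
      obtain ⟨w, hw, rfl⟩ := hl y hy
      simpa [hzz] using hw
    have hprod : ∀ t : List C, (t.map (z * ·)).prod = z ^ t.length * t.prod := by
      intro t
      induction t with
      | nil => simp
      | cons a t ih =>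
        rw [List.map_cons, List.prod_cons, List.prod_cons, ih, List.length_cons, pow_succ']
        calc z * a * (z ^ t.length * t.prod) = z * (a * z ^ t.length) * t.prod := by group
          _ = _ := by rw [((hs.cen a).pow_left _).symm.eq]; group
    have h1 : l'.prod = l.prod := by
      show (l.map (z * ·)).prod = l.prod
      rw [hprod, h6, show (6 : ℕ) = 2 * 3 from rfl, pow_mul, pow_two, hs.sq, one_pow, one_mul]
    rw [← h1] at hp1 ⊢
    refine h.hex l' (hn.map fun a b e => mul_left_cancel e) (by simp [l', h6]) hl' ?_ hp1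
    intro x hx y hy
    obtain ⟨a, ha, rfl⟩ := List.mem_map.1 hx
    obtain ⟨b, hb, rfl⟩ := List.mem_map.1 hy
    exact cz a b (hc a ha b hb)

end Cfsg.Agent.GenA.Heptad
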