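import Cfsg.Agent.GenA.Heptad.Classes

/-!
The Thompson subgroup of a Sylow 2-subgroup of the double cover, the uniqueness up to conjugation
of the elementary abelian subgroups of order 2^11, and the fusion of involutions into them.
-/

set_option autoImplicit false
set_option linter.unusedSectionVars false

namespace Cfsg.Agent.GenA.Heptad

open Cfsg.Agent.ThreeTransp
open Cfsg.Agent.ThreeTransp.M22 (IsProd)
open Cfsg.Agent.PLocal.ThompsonSubgroup

universe u v

variable {C : Type u} [Group C] [Finite C] {X : Type v} [Group X] [Finite X] {p : C →* X}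
  {z : C} {E : Set X} {L : Set C} (hs : Setup p z E) (hL : Good p z E L)
include hs hL

/-- The preimage lies in the Sylow subgroup. -/
theorem AA_le [Fact (Nat.Prime 2)] (S : Sylow 2 C) :
    AA p E (S.mapSurjective hs.surj) ≤ (S : Subgroup C) := by
  have hk : IsPGroup 2 ↥p.ker := fun x => by
    refine ⟨1, Subtype.ext ?_⟩
    rw [pow_one, Subgroup.coe_pow, pow_two, OneMemClass.coe_one]
    rcases hs.ker x x.2 with h | h <;> rw [h]
    exacts [mul_one 1, hs.sq]
  have hmax : ((S.mapSurjective hs.surj : Sylow 2 X) : Subgroup X).comap p = (S : Subgroup C) := by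
    refine S.is_maximal' ((S.mapSurjective hs.surj).isPGroup'.comap_of_ker_isPGroup p hk) ?_
    rw [Sylow.coe_mapSurjective]
    exact Subgroup.le_comap_map _ _
  rw [← hmax, AA]
  exact Subgroup.comap_mono ((Subgroup.closure_le _).2 fun x hx => hx.2)

/-- The large elementary abelian subgroups of the Sylow subgroup lie in the preimage. -/
theorem le_AA [Fact (Nat.Prime 2)] (S : Sylow 2 C) {B : Subgroup C} (hBS : B ≤ S)
    (hB : Cfsg.IsElementaryAbelian 2 B) (hcard : 2 ^ 11 ≤ Nat.card B) :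
    B ≤ AA p E (S.mapSurjective hs.surj) := by
  have hmap := IsElementaryAbelian.map hB p
  rw [AA, ← Subgroup.map_le_iff_le_comap]
  refine M22.Thompson.le_of_card hs.hE hs.hp hs.h22 _ ?_
    (isElementaryAbelian_iff.1 hmap).1 (fun q hq => (pow_two q).symm.trans (hmap.2 q hq)) ?_
  · rw [Sylow.coe_mapSurjective]
    exact Subgroup.map_mono hBS
  · have hle : Nat.card ↥B ≤ 2 * Nat.card ↥(B.map p) := by
      have h1 := Subgroup.card_eq_card_quotient_mul_card_subgroup ((p.comp B.subtype).ker)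
      rw [Nat.card_congr (QuotientGroup.quotientKerEquivRange (p.comp B.subtype)).toEquiv,
        MonoidHom.range_comp, Subgroup.range_subtype] at h1
      rw [h1, mul_comm]
      refine Nat.mul_le_mul_right _ ?_
      have hinj : Function.Injective
          (fun x : (p.comp B.subtype).ker => ((x : ↥B) : C)) :=
        Subtype.val_injective.comp Subtype.val_injective
      rw [← Nat.card_range_of_injective hinj, Nat.card_coe_set_eq]
      refine (Set.ncard_le_ncard (t := ({1, z} : Set C)) ?_ (Set.toFinite _)).trans ?_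
      · rintro _ ⟨x, rfl⟩
        exact hs.ker _ x.2
      · rw [Set.ncard_pair hs.ne.symm]
    rw [card_EE hs.hE hs.hp hs.h22]
    omega

/-- The Thompson subgroup. -/
theorem thompson_eq [Fact (Nat.Prime 2)] (S : Sylow 2 C) :
    Cfsg.thompsonSubgroupOf 2 (S : Subgroup C) = AA p E (S.mapSurjective hs.surj) := by
  set A₀ := AA p E (S.mapSurjective hs.surj) with hA₀
  have hle : A₀ ≤ (S : Subgroup C) := AA_le hs hL S
  have hcard : Nat.card A₀ = 2 ^ 11 := card_AA hs hL _
  have hsub : ∀ B : Subgroup ↥(S : Subgroup C), Cfsg.IsElementaryAbelian 2 B →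
      2 ^ 11 ≤ Nat.card B → B.map (S : Subgroup C).subtype ≤ A₀ := fun B hB hc =>
    le_AA hs hL S (Subgroup.map_subtype_le B) (IsElementaryAbelian.map hB _) (by
      rwa [Subgroup.card_map_of_injective (S : Subgroup C).subtype_injective])
  have hcA : Nat.card ↥(A₀.subgroupOf (S : Subgroup C)) = 2 ^ 11 := by
    rw [Nat.card_congr (Subgroup.subgroupOfEquivOfLe hle).toEquiv, hcard]
  have hmax : A₀.subgroupOf (S : Subgroup C) ∈
      Cfsg.maxElementaryAbelianSubgroups 2 ↥(S : Subgroup C) := by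
    refine ⟨IsElementaryAbelian.comap (elementary_AA hs hL _) (Subgroup.subtype_injective _),
      fun B hB => ?_⟩
    rw [hcA]
    by_contra h
    have := Subgroup.card_le_of_le (hsub B hB (by omega))
    rw [Subgroup.card_map_of_injective (S : Subgroup C).subtype_injective, hcard] at this
    omega
  refine le_antisymm ?_ ?_
  · rw [Cfsg.thompsonSubgroupOf, Subgroup.map_le_iff_le_comap, Cfsg.thompsonSubgroup]
    refine sSup_le fun B hB => ?_
    rw [← Subgroup.map_le_iff_le_comap]
    exact hsub B hB.1 (hcA ▸ hB.2 _ hmax.1)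
  · calc A₀ = (A₀.subgroupOf (S : Subgroup C)).map (S : Subgroup C).subtype :=
        (Subgroup.map_subgroupOf_eq_of_le hle).symm
      _ ≤ _ := Subgroup.map_mono (le_thompsonSubgroup hmax)

/-- The elementary abelian subgroups of order 2^11 are conjugate. -/
theorem conj_AA [Fact (Nat.Prime 2)] (S : Sylow 2 C) {B : Subgroup C}
    (hB : Cfsg.IsElementaryAbelian 2 B) (hcard : Nat.card B = 2 ^ 11) :
    ∃ c : C, (AA p E (S.mapSurjective hs.surj)).map (MulAut.conj c).toMonoidHom = B := by
  obtain ⟨S', hS'⟩ := (IsElementaryAbelian.isPGroup hB).exists_le_sylow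
  obtain ⟨c, hc⟩ := MulAction.exists_smul_eq C S S'
  refine ⟨c, ?_⟩
  set B' := B.map (MulAut.conj c⁻¹).toMonoidHom with hB'
  have hB'S : B' ≤ (S : Subgroup C) := by
    rintro _ ⟨x, hx, rfl⟩
    have hx' : x ∈ ((c • S : Sylow 2 C) : Subgroup C) := hc.symm ▸ hS' hx
    rw [Sylow.coe_subgroup_smul] at hx'
    obtain ⟨y, hy, rfl⟩ := hx'
    show c⁻¹ * (c * y * c⁻¹) * c⁻¹⁻¹ ∈ _
    rw [show c⁻¹ * (c * y * c⁻¹) * c⁻¹⁻¹ = y by group]
    exact hy
  have hc' : Nat.card B' = 2 ^ 11 := by
    rw [hB', Subgroup.card_map_of_injective (MulAut.conj c⁻¹).injective, hcard]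
  have heq : B' = AA p E (S.mapSurjective hs.surj) :=
    Subgroup.eq_of_le_of_card_ge (le_AA hs hL S hB'S (IsElementaryAbelian.map hB _) hc'.ge)
      (by rw [card_AA hs hL, hc'])
  rw [← heq, hB', Subgroup.map_map]
  ext x
  constructor
  · rintro ⟨y, hy, rfl⟩
    show c * (c⁻¹ * y * c⁻¹⁻¹) * c⁻¹ ∈ B
    rwa [show c * (c⁻¹ * y * c⁻¹⁻¹) * c⁻¹ = y by group]
  · intro hx
    refine ⟨x, hx, ?_⟩
    show c * (c⁻¹ * x * c⁻¹⁻¹) * c⁻¹ = x
    group

/-- Every involution is conjugate into the preimage. -/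
theorem invol_conj (T : Sylow 2 X) {y : C} (hy : y * y = 1) (h1 : y ≠ 1) (hz : y ≠ z) :
    ∃ c : C, c * y * c⁻¹ ∈ AA p E T := by
  haveI : Fact (Nat.Prime 2) := ⟨Nat.prime_two⟩
  have hq : orderOf (p y) = 2 := orderOf_eq_prime (by rw [pow_two, ← map_mul, hy, map_one])
    fun e => by rcases hs.ker y e with h | h <;> contradiction
  obtain ⟨m, hm1, hm3, hm⟩ := M22.exists_prod hs.hE hs.hp hs.h22 hq
  -- a target with the same number of factors
  have h22 := M22.Thompson.ncard_members hs.hE hs.hp hs.h22 T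
  obtain ⟨a, ha⟩ : (Om E T).Nonempty := Set.nonempty_of_ncard_ne_zero (h22.trans_ne (by norm_num))
  obtain ⟨b, hb, hba⟩ := Set.exists_ne_of_one_lt_ncard (s := Om E T) (h22 ▸ by norm_num) a
  obtain ⟨c, hc, hcab⟩ := Set.exists_mem_notMem_of_ncard_lt_ncard (s := ({a, b} : Set X))
    (t := Om E T) (by
      rw [Set.ncard_pair hba.symm]
      exact h22 ▸ by norm_num) (Set.toFinite _)
  simp only [Set.mem_insert_iff, Set.mem_singleton_iff, not_or] at hcab
  have cm := @M22.Thompson.comm X _ _ E hs.hE T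
  have sub : ∀ {q}, q ∈ Om E T → q ∈ EE E T := fun h => Subgroup.subset_closure h
  obtain ⟨q, hqE, hqm⟩ : ∃ q ∈ EE E T, IsProd E m q := by
    interval_cases m
    · exact ⟨a, sub ha, [a], by simp, rfl, by simp [ha.1], by simp, by simp⟩
    · exact ⟨a * b, mul_mem (sub ha) (sub hb), [a, b], by simp [hba.symm], rfl,
        by simp [ha.1, hb.1], by simp [cm ha hb, cm hb ha], by simp⟩
    · exact ⟨a * b * c, mul_mem (mul_mem (sub ha) (sub hb)) (sub hc), [a, b, c],
        by simp [hba.symm, Ne.symm hcab.1, Ne.symm hcab.2], rfl, by simp [ha.1, hb.1, hc.1],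
        by simp [cm ha hb, cm hb ha, cm ha hc, cm hc ha, cm hb hc, cm hc hb],
        by simp [mul_assoc]⟩
  obtain ⟨g, hg⟩ := isConj_iff.1 (M22.prod_conj hs.hE hs.hp hs.h22 hm1 hm3 hm hqm)
  obtain ⟨g, rfl⟩ := hs.surj g
  refine ⟨g, ?_⟩
  rw [AA, Subgroup.mem_comap, map_mul, map_mul, map_inv, hg]
  exact hqE

end Cfsg.Agent.GenA.Heptad
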