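import Cfsg.Agent.S5361
import Cfsg.Agent.GenA.Heptad.J
import Cfsg.Agent.GenA.Heptad.Count

/-!
The centraliser of an involution with a double cover of a group of type M(22) as centraliser:
the standing hypotheses, the Thompson subgroup and the conjugates inside it.
-/

set_option autoImplicit false

namespace Cfsg.Agent.GenA.Heptad

open Cfsg.Agent.ThreeTransp

universe u v

/-- The centraliser. -/
abbrev cent {G : Type u} [Group G] (d : G) : Subgroup G := Subgroup.centralizer ({d} : Set G)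

/-- The element in its centraliser. -/
def selfC {G : Type u} [Group G] (d : G) : ↥(cent d) :=
  ⟨d, Subgroup.mem_centralizer_singleton_iff.2 rfl⟩

theorem setup_of_hyp {G : Type u} [Group G] [Finite G] (d : G) (hd : orderOf d = 2)
    (hq : Cfsg.IsQuasisimple ↥(cent d))
    [hzn : ((Subgroup.zpowers d).subgroupOf (cent d)).Normal]
    {E : Set (↥(cent d) ⧸ (Subgroup.zpowers d).subgroupOf (cent d))}
    (hcls : Cfsg.IsThreeTranspositionClass E) (h22 : Cfsg.IsOfTypeM22 _ E) :
    Setup (QuotientGroup.mk' ((Subgroup.zpowers d).subgroupOf (cent d))) (selfC d) E ∧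
      commutator ↥(cent d) = ⊤ := by
  haveI : Fact (Nat.Prime 2) := ⟨Nat.prime_two⟩
  let π := QuotientGroup.mk' ((Subgroup.zpowers d).subgroupOf (cent d))
  have hπ : Function.Surjective π := QuotientGroup.mk'_surjective ((Subgroup.zpowers d).subgroupOf (cent d))
  have hdd : d * d = 1 := ThreeTransp.Basic.mul_self_of_orderOf_two hd
  have hdC : d ∈ (cent d) := Subgroup.mem_centralizer_iff.2 (by rintro _ rfl; rfl)
  have hzp : ∀ x ∈ Subgroup.zpowers d, x = 1 ∨ x = d := by
    intro x hx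
    obtain ⟨n, rfl⟩ := Subgroup.mem_zpowers_iff.1 hx
    rcases Int.even_or_odd n with ⟨r, rfl⟩ | ⟨r, rfl⟩
    · left; rw [← two_mul, zpow_mul, zpow_two, hdd, one_zpow]
    · right; rw [zpow_add, zpow_one, zpow_mul, zpow_two, hdd, one_zpow, one_mul]
  let z : ↥(cent d) := ⟨d, hdC⟩
  have hzc : ∀ c : ↥(cent d), Commute z c := fun c =>
    Subtype.ext (Subgroup.mem_centralizer_iff.1 c.2 d rfl)
  have hker : ∀ c : ↥(cent d), π c = 1 → c = 1 ∨ c = z := by
    intro c hc
    rcases hzp c (Subgroup.mem_subgroupOf.1 ((QuotientGroup.eq_one_iff c).1 hc)) with h | h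
    exacts [Or.inl (Subtype.ext h), Or.inr (Subtype.ext h)]
  have hD : Cfsg.IsThreeTranspositionGroup E := by
    refine ⟨hcls.1, fun g e he => ?_, hcls.2.2⟩
    obtain ⟨e₀, -, rfl⟩ := hcls.2.1
    exact (show IsConj e₀ e from he).trans (isConj_iff.2 ⟨g, rfl⟩)
  haveI := hq.1
  have hperf : commutator (↥(cent d) ⧸ ((Subgroup.zpowers d).subgroupOf (cent d))) = ⊤ := by
    rw [commutator_def, ← Subgroup.map_top_of_surjective π hπ, ← Subgroup.map_commutator,
      ← commutator_def, Group.IsPerfect.commutator_eq_top]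
  have hsimple : IsSimpleGroup (↥(cent d) ⧸ ((Subgroup.zpowers d).subgroupOf (cent d))) := by
    haveI := hq.2
    have hZ : Subgroup.center ↥(cent d) = ((Subgroup.zpowers d).subgroupOf (cent d)) := by
      refine le_antisymm (fun c hc => ?_) fun c hc => ?_
      · rw [← QuotientGroup.eq_one_iff c, ← Subgroup.mem_bot, ← h22.1]
        refine Subgroup.mem_center_iff.2 fun q => ?_
        obtain ⟨y, rfl⟩ := hπ q
        exact (congrArg π (Subgroup.mem_center_iff.1 hc y) :)
      · refine Subgroup.mem_center_iff.2 fun y => ?_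
        rcases hker c ((QuotientGroup.eq_one_iff c).2 hc) with rfl | rfl
        exacts [(Commute.one_left y).eq.symm, (hzc y).eq.symm]
    exact (QuotientGroup.quotientMulEquivOfEq hZ).symm.isSimpleGroup
  have hw : ∃ a ∈ E, ∃ b ∈ E, a ≠ b ∧ Commute a b := by
    obtain ⟨a, ha, -⟩ := hcls.2.1
    obtain ⟨K⟩ := ThreeTransp.M22.exists_chart hD h22 ha
    obtain ⟨b, hb⟩ :=
      Set.nonempty_of_ncard_ne_zero (K.ncard_nb.trans_ne (by norm_num : (693 : ℕ) ≠ 0))
    exact ⟨a, ha, b, hb.1, Ne.symm hb.2.1, hb.2.2⟩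
  have hprim : Cfsg.IsPrimitiveUnderConj E := (S5361.result hcls h22.1 hw).1.1
    ((MulEquiv.subgroupCongr hperf).trans Subgroup.topEquiv).isSimpleGroup
  have hs : Setup π z E :=
    ⟨hD, hprim, h22, hπ, Subtype.ext hdd,
      fun h => ThreeTransp.Basic.ne_one_of_orderOf_two hd (congrArg Subtype.val h), hzc,
      (QuotientGroup.eq_one_iff z).2 (Subgroup.mem_subgroupOf.2 (Subgroup.mem_zpowers d)), hker⟩
  exact ⟨hs, Group.IsPerfect.commutator_eq_top⟩

variable {G : Type u} [Group G] [Finite G] {d : G} {X : Type v} [Group X] [Finite X]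
  {E : Set X} {p : ↥(cent d) →* X} {L : Set ↥(cent d)}
  (hs : Setup p (selfC d) E) (hL : Good p (selfC d) E L) (S : Sylow 2 ↥(cent d))

include hs hL in
/-- The Thompson subgroup, as a subgroup of the whole group. -/
theorem thompson_map : Cfsg.IsElementaryAbelian 2 ((AA p E (S.mapSurjective hs.surj)).map (cent d).subtype) ∧
    Nat.card ↥((AA p E (S.mapSurjective hs.surj)).map (cent d).subtype) = 2 ^ 11 := by
  haveI : Fact (Nat.Prime 2) := ⟨Nat.prime_two⟩
  refine ⟨PLocal.ThompsonSubgroup.IsElementaryAbelian.map (elementary_AA hs hL _) _, ?_⟩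
  rw [Subgroup.card_map_of_injective (Subgroup.subtype_injective _), card_AA hs hL _]

include hs hL in
/-- The normaliser moves `d` to each of its conjugates inside. -/
theorem trans_AA {A : Subgroup G} (hAA : A = (AA p E (S.mapSurjective hs.surj)).map (cent d).subtype)
    {x : G} (hx : x ∈ A) (hconj : IsConj d x) :
    ∃ n ∈ Subgroup.normalizer (A : Set G), n * d * n⁻¹ = x := by
  haveI : Fact (Nat.Prime 2) := ⟨Nat.prime_two⟩
  obtain ⟨helA, hcardA⟩ := thompson_map hs hL S
  rw [← hAA] at helA hcardA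
  obtain ⟨g, rfl⟩ := isConj_iff.1 hconj
  let B := A.map (MulAut.conj g⁻¹).toMonoidHom
  have hBC : B ≤ cent d := by
    rintro _ ⟨a, ha, rfl⟩
    refine Subgroup.mem_centralizer_singleton_iff.2 ?_
    have h := (PLocal.ThompsonSubgroup.isElementaryAbelian_iff.1 helA).1 a ha _ hx
    show g⁻¹ * a * g⁻¹⁻¹ * d = d * (g⁻¹ * a * g⁻¹⁻¹)
    calc g⁻¹ * a * g⁻¹⁻¹ * d = g⁻¹ * (a * (g * d * g⁻¹)) * g := by group
      _ = g⁻¹ * (g * d * g⁻¹ * a) * g := by rw [h]
      _ = _ := by group
  let B' := B.subgroupOf (cent d)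
  have hB' : B'.map (cent d).subtype = B :=
    Subgroup.map_subgroupOf_eq_of_le hBC
  have hBel : Cfsg.IsElementaryAbelian 2 B' :=
    PLocal.ThompsonSubgroup.IsElementaryAbelian.comap
      (PLocal.ThompsonSubgroup.IsElementaryAbelian.map helA _) (Subgroup.subtype_injective _)
  have hBcard : Nat.card B' = 2 ^ 11 := by
    rw [← Subgroup.card_map_of_injective (f := (cent d).subtype)
      (Subgroup.subtype_injective _), hB',
      Subgroup.card_map_of_injective (MulAut.conj g⁻¹).injective, hcardA]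
  obtain ⟨c, hc⟩ := conj_AA hs hL S hBel hBcard
  have hBc : A.map (MulAut.conj (c : G)).toMonoidHom = B := by
    rw [← hB', ← hc, hAA, Subgroup.map_map, Subgroup.map_map]
    rfl
  refine ⟨g * (c : G), ?_, ?_⟩
  · rw [Subgroup.mem_normalizer_iff_map_conj_eq]
    calc A.map (MulAut.conj (g * (c : G))).toMonoidHom
        = (A.map (MulAut.conj (c : G)).toMonoidHom).map (MulAut.conj g).toMonoidHom := by
          rw [Subgroup.map_map, map_mul]; rfl
      _ = A := by
        rw [hBc, Subgroup.map_map]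
        conv_rhs => rw [← A.map_id]
        congr 1
        ext y
        show g * (g⁻¹ * y * g⁻¹⁻¹) * g⁻¹ = y
        group
  · calc g * (c : G) * d * (g * (c : G))⁻¹ = g * ((c : G) * d * (c : G)⁻¹) * g⁻¹ := by group
      _ = g * d * g⁻¹ := by
        rw [← Subgroup.mem_centralizer_iff.1 c.2 d rfl, mul_inv_cancel_right]

include hs hL in
/-- The conjugates inside, seen in the centraliser. -/
theorem orb_conj :
    Orb p (selfC d) E (S.mapSurjective hs.surj)
      {y | y ∈ AA p E (S.mapSurjective hs.surj) ∧ IsConj d (y : G)} := by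
  haveI : Fact (Nat.Prime 2) := ⟨Nat.prime_two⟩
  let T := S.mapSurjective hs.surj
  let A₀ := AA p E T
  let Δ : Set ↥(cent d) := {y | y ∈ A₀ ∧ IsConj d (y : G)}
  let A := A₀.map (cent d).subtype
  have hAA : A = A₀.map (cent d).subtype := rfl
  have hdA : d ∈ A := ⟨selfC d, z_mem_AA hs T, rfl⟩
  have trans : ∀ x ∈ A, IsConj d x → ∃ n ∈ Subgroup.normalizer (A : Set G), n * d * n⁻¹ = x :=
    fun x hx hc => trans_AA hs hL S hAA hx hc
  have hgd0 : selfC d * selfC d = 1 := hs.sq
  have hzc := hs.cen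
  have hnsq : ∀ w : ↥(cent d), w * w ∉ Δ := by
    intro w hw
    obtain ⟨k, hk⟩ := isConj_iff.1 hw.2
    -- `d` is the square of `g`
    set g := k⁻¹ * (w : G) * k with hg
    have hgd : g * g = d := by
      calc g * g = k⁻¹ * ((w * w : ↥(cent d)) : G) * k := by
            rw [hg, Subgroup.coe_mul]; group
        _ = d := by rw [← hk]; group
    have hgC : g ∈ cent d := Subgroup.mem_centralizer_iff.2 (by
      rintro _ rfl; rw [← hgd, mul_assoc])
    set g' : ↥(cent d) := ⟨g, hgC⟩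
    have hg2 : g' * g' = (selfC d) := Subtype.ext hgd
    by_cases h1 : p g' = 1
    · rcases hs.ker g' h1 with h | h <;> rw [h] at hg2
      · exact hs.ne (by rw [← hg2, one_mul])
      · exact hs.ne (by rw [← hg2]; exact hs.sq)
    · have hx : orderOf (p g') = 2 := orderOf_eq_prime (by
        rw [pow_two, ← map_mul, hg2, hs.one]) h1
      obtain ⟨m, -, -, l, -, -, hl, hlc, hp⟩ := ThreeTransp.M22.exists_prod hs.hE hs.hp hs.h22 hx
      obtain ⟨y, hy, hyx⟩ := ThreeTransp.M22.DoubleCover.lift_involution hs.hE hs.hp hs.h22 p hs.surj (selfC d)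
        hs.sq hzc hs.ker hx hl hlc hp
      have hy2 : y * y = 1 := ThreeTransp.Basic.mul_self_of_orderOf_two hy
      rcases hs.ker (y⁻¹ * g') (by rw [map_mul, map_inv, hyx, inv_mul_cancel]) with h | h
      · rw [inv_mul_eq_one] at h
        exact hs.ne (by rw [← hg2, ← h, hy2])
      · rw [inv_mul_eq_iff_eq_mul] at h
        exact hs.ne (by rw [← hg2, h, (hzc y).mul_mul_mul_comm, hy2, hs.sq, one_mul])
  let R : ↥(Subgroup.normalizer (A : Set G)) →* MulAut ↥A₀ :=
    (MulAut.congr ((MulEquiv.subgroupCongr hAA).trans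
      (A₀.equivMapOfInjective _ (Subgroup.subtype_injective _)).symm)).toMonoidHom.comp
      (Subgroup.normalizerMonoidHom A)
  have hR : ∀ (n : ↥(Subgroup.normalizer (A : Set G))) (y : ↥A₀),
      (((R n y : ↥A₀) : ↥(cent d)) : G) =
        (n : G) * ((y : ↥(cent d)) : G) * (n : G)⁻¹ := by
    intro n y
    set ε := (MulEquiv.subgroupCongr hAA).trans
      (A₀.equivMapOfInjective _ (Subgroup.subtype_injective _)).symm with hε
    have hv : ∀ a : ↥A, (((ε a : ↥A₀) : ↥(cent d)) : G) = (a : G) := by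
      intro a
      obtain ⟨b, rfl⟩ := ε.symm.surjective a
      rw [ε.apply_symm_apply]
      rfl
    show (((ε (Subgroup.normalizerMonoidHom A n (ε.symm y)) : ↥A₀) :
      ↥(cent d)) : G) = _
    rw [hv]
    rfl
  refine ⟨fun y hy => hy.1, ⟨z_mem_AA hs T, IsConj.refl d⟩, fun c y hy hc => ⟨hc, ?_⟩, hnsq,
    ⟨R.range, ?_, ?_⟩⟩
  · refine hy.2.trans (isConj_iff.2 ⟨(c : G), ?_⟩)
    simp
  · rintro _ ⟨n, rfl⟩ y hy
    refine ⟨(R n y).2, ?_⟩
    rw [hR]
    exact hy.2.trans (isConj_iff.2 ⟨n, rfl⟩)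
  · intro y hy
    obtain ⟨n, hn, hny⟩ := trans _ (hAA ▸ ⟨y, y.2, rfl⟩) hy.2
    refine ⟨R ⟨n, hn⟩, ⟨_, rfl⟩, fun h => Subtype.ext (Subtype.ext ?_)⟩
    rw [hR]
    exact hny

include hs hL in
/-- A conjugate other than `d` lies inside. -/
theorem exists_conj_AA (hdd : d * d = 1) (hd1 : d ≠ 1)
    (hnwc : ∃ g : G, g * d * g⁻¹ ∈ cent d ∧ g * d * g⁻¹ ≠ d) :
    ∃ y ∈ {y | y ∈ AA p E (S.mapSurjective hs.surj) ∧ IsConj d (y : G)}, y ≠ selfC d := by
  let T := S.mapSurjective hs.surj
  have hzc := hs.cen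
  obtain ⟨g, hgC, hgd⟩ := hnwc
  set y : ↥(cent d) := ⟨g * d * g⁻¹, hgC⟩ with hy
  have hy2 : y * y = 1 := Subtype.ext (by
    show g * d * g⁻¹ * (g * d * g⁻¹) = 1
    rw [show g * d * g⁻¹ * (g * d * g⁻¹) = g * (d * d) * g⁻¹ by group, hdd]; group)
  obtain ⟨c, hc⟩ := invol_conj hs hL T hy2
    (fun h => hd1
      (conj_eq_one_iff.1 (congrArg Subtype.val h)))
    (fun h => hgd (congrArg Subtype.val h))
  refine ⟨c * y * c⁻¹, ⟨hc, isConj_iff.2 ⟨(c : G) * g, ?_⟩⟩, fun h => hgd ?_⟩
  · simp [hy, mul_assoc]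
  · have h' : y = (selfC d) := by
      rw [show y = c⁻¹ * (c * y * c⁻¹) * c by group, h, mul_assoc, (hzc c).eq, inv_mul_cancel_left]
    exact congrArg Subtype.val h'


end Cfsg.Agent.GenA.Heptad
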