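import Cfsg.Agent.Lib.ThreeTransp.M22.Thompson

/-!
The span of the members inside a Sylow 2-subgroup of a group of type M(22) has order 1024: every
element is a product of at most three of them, and at most two triples give one product.
-/

set_option autoImplicit false
set_option linter.unusedSectionVars false

namespace Cfsg.Agent.GenA.Heptad

open Cfsg.Agent.ThreeTransp
open Cfsg.Agent.ThreeTransp.Factor (Third)
open Cfsg.Agent.ThreeTransp.M22 (IsProd)

universe u

variable {X : Type u} [Group X] [Finite X] {E : Set X} (hE : Cfsg.IsThreeTranspositionGroup E)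
  (hp : Cfsg.IsPrimitiveUnderConj E) (h22 : Cfsg.IsOfTypeM22 X E) (T : Sylow 2 X)

/-- The members inside the Sylow subgroup. -/
abbrev Om (E : Set X) (T : Sylow 2 X) : Set X := {x : X | x ∈ E ∧ x ∈ (T : Subgroup X)}

/-- Their span. -/
abbrev EE (E : Set X) (T : Sylow 2 X) : Subgroup X := Subgroup.closure (Om E T)

include hE hp h22

/-- The factors of a short product lying in the span are among the members. -/
theorem factors_mem {l : List X} (hn : l.Nodup) (h1 : 1 ≤ l.length) (h3 : l.length ≤ 3)
    (hlE : ∀ p ∈ l, p ∈ E) (hlc : ∀ p ∈ l, ∀ q ∈ l, Commute p q) (hmem : l.prod ∈ EE E T) :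
    ∀ p ∈ l, p ∈ Om E T := by
  intro p hpl
  refine ⟨hlE p hpl, M22.Thompson.maximal hE hp h22 T (hlE p hpl) fun x hx hxT => ?_⟩
  have hj : Commute x l.prod :=
    M22.Thompson.EE_comm hE T x (Subgroup.subset_closure ⟨hx, hxT⟩) _ hmem
  match l, h1, h3 with
  | [a], _, _ =>
    rw [List.mem_singleton] at hpl
    subst hpl
    simpa using hj.symm
  | [a, b], _, _ =>
    have := Factor.commute_each_two hE (hlE a (by simp)) (hlE b (by simp)) hx
      (by simpa using hn) (by simpa using hj)
    simp only [List.mem_cons, List.not_mem_nil, or_false] at hpl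
    rcases hpl with rfl | rfl
    exacts [this.1.symm, this.2.symm]
  | [a, b, c], _, _ =>
    simp only [List.nodup_cons, List.mem_cons, List.not_mem_nil, or_false, not_or, List.nodup_nil,
      and_true, not_false_eq_true] at hn
    have := Factor.commute_each_three hE (hlE a (by simp)) (hlE b (by simp)) (hlE c (by simp)) hx
      hn.1.1 hn.1.2 hn.2 (hlc a (by simp) b (by simp)) (hlc a (by simp) c (by simp))
      (hlc b (by simp) c (by simp)) (by simpa [mul_assoc] using hj)
    simp only [List.mem_cons, List.not_mem_nil, or_false] at hpl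
    rcases hpl with rfl | rfl | rfl
    exacts [this.1.symm, this.2.1.symm, this.2.2.symm]
  | [], h, _ => simp at h
  | _ :: _ :: _ :: _ :: _, _, h => simp only [List.length_cons] at h; omega

/-- Every element of the span is a product of at most three members. -/
theorem span_cases {q : X} (hq : q ∈ EE E T) :
    ∃ l : List X, l.Nodup ∧ l.length ≤ 3 ∧ (∀ p ∈ l, p ∈ Om E T) ∧ l.prod = q := by
  by_cases h1 : q = 1
  · exact ⟨[], List.nodup_nil, by simp, by simp, by simp [h1]⟩
  obtain ⟨m, hm1, hm3, l, hn, hl, hlE, hlc, rfl⟩ := M22.exists_prod hE hp h22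
    (orderOf_eq_prime (by rw [pow_two, M22.Thompson.EE_sq hE T hq]) h1)
  exact ⟨l, hn, hl ▸ hm3, factors_mem hE hp h22 T hn (hl ▸ hm1) (hl ▸ hm3) hlE hlc hq, rfl⟩

/-- The six members belonging to a product of three. -/
theorem six_members {a b c : X} (ha : a ∈ Om E T) (hb : b ∈ Om E T) (hc : c ∈ Om E T)
    (hab : a ≠ b) (hac : a ≠ c) (hbc : b ≠ c) :
    ∃ x y z : X, x ∈ Om E T ∧ y ∈ Om E T ∧ z ∈ Om E T ∧ [a, b, c, x, y, z].Nodup ∧
      a * b * c = x * y * z ∧
      ∀ u v w : X, u ∈ E → v ∈ E → w ∈ E → u ≠ v → u ≠ w → v ≠ w → Commute u v → Commute u w →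
        Commute v w → u * v * w = a * b * c → u ∈ [a, b, c, x, y, z] := by
  have cm := @M22.Thompson.comm X _ _ E hE T
  obtain ⟨x, y, z, hx, hy, hz, hnd, ⟨cxy, cxz, cyz⟩, hall, he⟩ :=
    Factor.exists_other hE hp h22 ha.1 hb.1 hc.1 hab hac hbc (cm ha hb) (cm ha hc) (cm hb hc)
  have hmem : a * b * c ∈ EE E T := mul_mem (mul_mem (Subgroup.subset_closure ha)
    (Subgroup.subset_closure hb)) (Subgroup.subset_closure hc)
  have hxyz := factors_mem hE hp h22 T (l := [x, y, z])
    (hnd.sublist (List.sublist_append_right [a, b, c] [x, y, z])) (by simp) (by simp)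
    (by simp [hx.1, hy.1, hz.1])
    (by simp [cxy, cxy.symm, cxz, cxz.symm, cyz, cyz.symm])
    (by simpa [mul_assoc, ← mul_assoc] using he ▸ hmem)
  refine ⟨x, y, z, hxyz x (by simp), hxyz y (by simp), hxyz z (by simp), hnd, he, ?_⟩
  intro u v w hu hv hw huv huw hvw cuv cuw cvw hp3
  by_contra hnot
  simp only [List.mem_cons, List.not_mem_nil, or_false, not_or] at hnot
  have hsix : ∀ e ∈ Om E T, Commute e u := fun e he' => by
    refine (Factor.commute_each_three hE hu hv hw he'.1 huv huw hvw cuv cuw cvw ?_).1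
    rw [hp3]
    exact M22.Thompson.EE_comm hE T e (Subgroup.subset_closure he') _ hmem
  have h3 : Third E a b c u := by
    refine ⟨hu, ⟨hnot.1, hnot.2.1, hnot.2.2.1⟩,
      ⟨(hsix a ha).symm, (hsix b hb).symm, (hsix c hc).symm⟩, fun f hf h1 h2 h4 => ?_⟩
    refine (Factor.commute_each_three hE hu hv hw hf huv huw hvw cuv cuw cvw ?_).1
    rw [hp3]
    exact (h1.mul_right h2).mul_right h4
  rcases hall u h3 with e | e | e
  exacts [hnot.2.2.2.1 e, hnot.2.2.2.2.1 e, hnot.2.2.2.2.2 e]

/-- The span has order 1024. -/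
theorem card_EE : Nat.card ↥(EE E T) = 1024 := by
  classical
  haveI : IsMulCommutative ↥(EE E T) :=
    ⟨⟨fun p q => Subtype.ext (M22.Thompson.EE_comm hE T p p.2 q q.2)⟩⟩
  letI : CommGroup ↥(EE E T) :=
    { (inferInstance : Group ↥(EE E T)) with mul_comm := mul_comm' }
  haveI := Fintype.ofFinite ↥(EE E T)
  set W : Finset ↥(EE E T) := Finset.univ.filter fun p => (p : X) ∈ Om E T with hW
  have hWcard : W.card = 22 := by
    rw [← M22.Thompson.ncard_members hE hp h22 T,
      ← Set.ncard_coe_finset, ← Set.ncard_image_of_injective _ Subtype.val_injective]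
    congr 1
    ext x
    constructor
    · rintro ⟨p, hpW, rfl⟩
      exact (Finset.mem_filter.1 (Finset.mem_coe.1 hpW)).2
    · intro hx
      exact ⟨⟨x, Subgroup.subset_closure hx⟩, Finset.mem_coe.2 (Finset.mem_filter.2
        ⟨Finset.mem_univ _, hx⟩), rfl⟩
  set f : Finset ↥(EE E T) → ↥(EE E T) := fun s => s.prod id with hf
  have hup : (Finset.univ : Finset ↥(EE E T)) ⊆ (W.powersetCard 0).image f ∪ (W.powersetCard 1).image f
      ∪ (W.powersetCard 2).image f ∪ (W.powersetCard 3).image f := by
    rintro ⟨q, hq⟩ -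
    obtain ⟨l, hn, h3, hl, rfl⟩ := span_cases hE hp h22 T hq
    set l' : List ↥(EE E T) := l.attach.map fun p =>
      ⟨p.1, Subgroup.subset_closure (hl p.1 p.2)⟩ with hl'
    have hv : l'.map Subtype.val = l := by
      rw [hl', List.map_map]
      exact List.attach_map_subtype_val l
    have hnd : l'.Nodup := List.Nodup.of_map Subtype.val (hv.symm ▸ hn)
    have hsub : l'.toFinset ⊆ W := fun p hp' => by
      refine Finset.mem_filter.2 ⟨Finset.mem_univ _, hl _ ?_⟩
      rw [← hv]
      exact List.mem_map.2 ⟨p, List.mem_toFinset.1 hp', rfl⟩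
    have hlen : l'.toFinset.card = l.length := by
      rw [List.toFinset_card_of_nodup hnd, hl', List.length_map, List.length_attach]
    have heq : f l'.toFinset = ⟨l.prod, hq⟩ := by
      apply Subtype.ext
      show ((l'.toFinset.prod id : ↥(EE E T)) : X) = l.prod
      rw [List.prod_toFinset id hnd, List.map_id, SubmonoidClass.coe_list_prod, hv]
    have hin : f l'.toFinset ∈ (W.powersetCard l.length).image f :=
      Finset.mem_image_of_mem f (Finset.mem_powersetCard.2 ⟨hsub, hlen⟩)
    rw [heq] at hin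
    simp only [Finset.mem_union]
    match hlen' : l.length, h3 with
    | 0, _ => rw [hlen'] at hin; tauto
    | 1, _ => rw [hlen'] at hin; tauto
    | 2, _ => rw [hlen'] at hin; tauto
    | 3, _ => rw [hlen'] at hin; tauto
    | k + 4, h => omega
  have hfib : (W.powersetCard 3).card ≤ 2 * ((W.powersetCard 3).image f).card := by
    refine Finset.card_le_mul_card_image _ 2 fun q hq => ?_
    obtain ⟨s, hs, rfl⟩ := Finset.mem_image.1 hq
    obtain ⟨hsW, hs3⟩ := Finset.mem_powersetCard.1 hs
    obtain ⟨a, b, c, hab, hac, hbc, rfl⟩ := Finset.card_eq_three.1 hs3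
    have mem : ∀ p ∈ W, (p : X) ∈ Om E T := fun p hp' => (Finset.mem_filter.1 hp').2
    have ma := mem a (hsW (by simp))
    have mb := mem b (hsW (by simp))
    have mc := mem c (hsW (by simp))
    obtain ⟨x, y, z, hx, hy, hz, hnd, hxyz, huniq⟩ := six_members hE hp h22 T ma mb mc
      (Subtype.coe_injective.ne hab) (Subtype.coe_injective.ne hac) (Subtype.coe_injective.ne hbc)
    set s₂ : Finset ↥(EE E T) := {⟨x, Subgroup.subset_closure hx⟩, ⟨y, Subgroup.subset_closure hy⟩,
      ⟨z, Subgroup.subset_closure hz⟩} with hs₂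
    refine le_trans (Finset.card_le_card (t := {({a, b, c} : Finset ↥(EE E T)), s₂}) ?_)
      Finset.card_le_two
    intro t ht
    obtain ⟨ht, htq⟩ := Finset.mem_filter.1 ht
    obtain ⟨htW, ht3⟩ := Finset.mem_powersetCard.1 ht
    obtain ⟨u, v, w, huv, huw, hvw, rfl⟩ := Finset.card_eq_three.1 ht3
    have cm := @M22.Thompson.comm X _ _ E hE T
    have mu := mem u (htW (by simp))
    have mv := mem v (htW (by simp))
    have mw := mem w (htW (by simp))
    have nuv := Subtype.coe_injective.ne huv
    have nuw := Subtype.coe_injective.ne huw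
    have nvw := Subtype.coe_injective.ne hvw
    have hprod : (u : X) * v * w = a * b * c := by
      have h := congrArg Subtype.val htq
      simpa [hf, Finset.prod_insert, huv, huw, hvw, hab, hac, hbc, mul_assoc] using h
    have h4 : Factor.Rel 4 E := (Factor.M22_core hE h22).2.1.mono (by norm_num)
    simp only [Finset.mem_insert, Finset.mem_singleton]
    have key : ∀ p q r : X, p ∈ Om E T → q ∈ Om E T → r ∈ Om E T → p ≠ q → p ≠ r → q ≠ r →
        p * q * r = a * b * c → ((u : X) = p ∨ (u : X) = q ∨ (u : X) = r) →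
        ∀ k : X, (k = p ∨ k = q ∨ k = r) ↔ (k = u ∨ k = v ∨ k = w) :=
      fun p q r hp' hq' hr' n1 n2 n3 he hsh =>
        Factor.triple_eq_of_mem hE h4 hp'.1 hq'.1 hr'.1 mv.1 mw.1 mu.1 n1 n2 n3 nuv nuw nvw
          (cm hp' hq') (cm hp' hr') (cm hq' hr') (cm mu mv) (cm mu mw) (cm mv mw)
          (he.trans hprod.symm) hsh
    have hu6 := huniq u v w mu.1 mv.1 mw.1 nuv nuw nvw (cm mu mv) (cm mu mw) (cm mv mw) hprod
    simp only [List.mem_cons, List.not_mem_nil, or_false] at hu6
    have hnd' := hnd
    simp only [List.nodup_cons, List.mem_cons, List.not_mem_nil, or_false, not_or, List.nodup_nil,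
      and_true, not_false_eq_true] at hnd'
    obtain ⟨-, -, -, ⟨nxy, nxz⟩, nyz⟩ := hnd'
    by_cases h : (u : X) = a ∨ (u : X) = b ∨ (u : X) = c
    · left
      have hk := key a b c ma mb mc (Subtype.coe_injective.ne hab) (Subtype.coe_injective.ne hac)
        (Subtype.coe_injective.ne hbc) rfl h
      ext k
      simp only [Finset.mem_insert, Finset.mem_singleton, ← Subtype.coe_inj]
      exact (hk k).symm
    · right
      have hk := key x y z hx hy hz nxy nxz nyz hxyz.symm (by tauto)
      ext k
      simp only [hs₂, Finset.mem_insert, Finset.mem_singleton, ← Subtype.coe_inj]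
      exact (hk k).symm
  have h1 := Finset.card_le_card hup
  rw [Finset.card_univ, ← Nat.card_eq_fintype_card] at h1
  have i0 := (Finset.card_image_le (s := W.powersetCard 0) (f := f))
  have i1 := (Finset.card_image_le (s := W.powersetCard 1) (f := f))
  have i2 := (Finset.card_image_le (s := W.powersetCard 2) (f := f))
  have i3 := (Finset.card_image_le (s := W.powersetCard 3) (f := f))
  have h2 := Finset.card_le_univ ((W.powersetCard 3).image f)
  rw [← Nat.card_eq_fintype_card] at h2
  simp only [Finset.card_powersetCard, hWcard] at i0 i1 i2 i3 hfib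
  rw [show Nat.choose 22 0 = 1 from rfl] at i0
  rw [show Nat.choose 22 1 = 22 from rfl] at i1
  rw [show Nat.choose 22 2 = 231 by decide] at i2
  rw [show Nat.choose 22 3 = 1540 by decide] at i3 hfib
  have u01 := Finset.card_union_le ((W.powersetCard 0).image f) ((W.powersetCard 1).image f)
  have u012 := Finset.card_union_le ((W.powersetCard 0).image f ∪ (W.powersetCard 1).image f)
    ((W.powersetCard 2).image f)
  have u0123 := Finset.card_union_le ((W.powersetCard 0).image f ∪ (W.powersetCard 1).image f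
    ∪ (W.powersetCard 2).image f) ((W.powersetCard 3).image f)
  have hEp : IsPGroup 2 ↥(EE E T) := fun x =>
    ⟨1, Subtype.ext (by simpa [pow_two] using M22.Thompson.EE_sq hE T x.2)⟩
  haveI : Fact (Nat.Prime 2) := ⟨Nat.prime_two⟩
  obtain ⟨k, hk⟩ := IsPGroup.iff_card.1 hEp
  have lo : 2 ^ 9 < 2 ^ k := by rw [← hk]; omega
  have hi : 2 ^ k < 2 ^ 11 := by rw [← hk]; omega
  rw [Nat.pow_lt_pow_iff_right (by norm_num)] at lo hi
  rw [hk, show k = 10 by omega]
  rfl

end Cfsg.Agent.GenA.Heptad
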