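import Cfsg.Agent.GenA.Heptad.Good
import Cfsg.Agent.GenA.Heptad.Cover22
import Cfsg.Agent.Lib.ThreeTransp.M22Iso.Main
import Mathlib.Algebra.Group.Shrink
import Mathlib.Logic.Small.Basic

/-!
A perfect double cover of a group of type M(22) has a good class of lifts of the members.
-/

set_option autoImplicit false
set_option linter.unusedSectionVars false

namespace Cfsg.Agent.GenA.Heptad

open Cfsg.Agent.ThreeTransp

universe u v

theorem exists_good {C : Type u} [Group C] [Finite C] {X : Type v} [Group X] [Finite X]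
    {p : C →* X} {z : C} {E : Set X} (hs : Setup p z E) (hperf : commutator C = ⊤) :
    ∃ L : Set C, Good p z E L := by
  haveI := Cfsg.Agent.InvChar.Coset.FiUnit.finite_Fi
  obtain ⟨e, he⟩ := M22Iso.exists_iso hs.hE hs.hp hs.h22 Fi22Model.grp Fi22Model.primitive
    Fi22Model.type22
  obtain ⟨B, _, _, τ, zB, L₀, hτs, hB, hBc, hB2, hzB, hzB1, Lconj, Lmem, Lsurj, Linj, Lbraid,
    Lhex⟩ := Model.exists_model
  let ε : Shrink.{0} C ≃* C := Shrink.mulEquiv
  haveI : Finite (Shrink.{0} C) := Finite.of_equiv C ε.symm.toEquiv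
  let σ : Shrink.{0} C →* Cfsg.Spor.Fi22 := e.toMonoidHom.comp (p.comp ε.toMonoidHom)
  have hσs : Function.Surjective σ := e.surjective.comp (hs.surj.comp ε.surjective)
  have hσk : ∀ x, σ x = 1 ↔ ε x = 1 ∨ ε x = z := fun x => by
    show e (p (ε x)) = 1 ↔ _
    rw [map_eq_one_iff e e.injective]
    refine ⟨hs.ker _, ?_⟩
    rintro (h | h) <;> rw [h]
    exacts [map_one p, hs.one]
  have hperf' : commutator (Shrink.{0} C) = ⊤ := by
    have h := Subgroup.map_commutator (⊤ : Subgroup C) ⊤ ε.symm.toMonoidHom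
    rw [Subgroup.map_top_of_surjective _ ε.symm.surjective, ← commutator_def, ← commutator_def,
      hperf, Subgroup.map_top_of_surjective _ ε.symm.surjective] at h
    exact h.symm
  have hσc : σ.ker ≤ Subgroup.center (Shrink.{0} C) := fun x hx => by
    rw [Subgroup.mem_center_iff]
    intro y
    apply ε.injective
    rw [map_mul, map_mul]
    rcases (hσk x).1 hx with h | h <;> rw [h]
    exacts [(Commute.one_left _).eq.symm, (hs.cen _).eq.symm]
  have hσ2 : Nat.card σ.ker = 2 := by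
    have hset : ε '' (σ.ker : Set (Shrink.{0} C)) = {1, z} := by
      ext c
      constructor
      · rintro ⟨x, hx, rfl⟩
        exact (hσk x).1 hx
      · intro hc
        exact ⟨ε.symm c, (hσk _).2 (by rwa [ε.apply_symm_apply]), ε.apply_symm_apply c⟩
    rw [← SetLike.coe_sort_coe, Nat.card_coe_set_eq,
      ← Set.ncard_image_of_injective _ ε.injective, hset, Set.ncard_pair hs.ne.symm]
  obtain ⟨θ, hθ⟩ := covers_iso σ τ hσs hτs hperf' hB hσc hBc hσ2 hB2
  let Φ : C ≃* B := ε.symm.trans θ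
  have hΦ : ∀ c, τ (Φ c) = e (p c) := fun c => by
    show τ (θ (ε.symm c)) = _
    rw [hθ]
    show e (p (ε (ε.symm c))) = _
    rw [ε.apply_symm_apply]
  have hΦz : Φ z = zB := by
    haveI : Finite τ.ker := inferInstance
    obtain ⟨w, -, hu⟩ := (Nat.card_eq_two_iff' (1 : τ.ker)).1 hB2
    have h1 : (⟨Φ z, by rw [MonoidHom.mem_ker, hΦ, hs.one, map_one]⟩ : τ.ker) ≠ 1 := fun h =>
      hs.ne (Φ.map_eq_one_iff.1 (congrArg Subtype.val h))
    have h2 : (⟨zB, hzB⟩ : τ.ker) ≠ 1 := fun h => hzB1 (congrArg Subtype.val h)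
    exact congrArg Subtype.val ((hu _ h1).trans (hu _ h2).symm)
  have hmemE : ∀ q, e q ∈ Fi22Model.DD ↔ q ∈ E := fun q => by
    rw [← he]
    exact e.injective.mem_set_image
  refine ⟨Φ ⁻¹' L₀, ⟨?_, ?_, ?_, ?_, ?_, ?_⟩⟩
  · intro g x hx
    show Φ (g * x * g⁻¹) ∈ L₀
    rw [map_mul, map_mul, map_inv]
    exact Lconj _ _ hx
  · intro x hx
    rw [← hmemE, ← hΦ]
    exact Lmem _ hx
  · intro q hq
    obtain ⟨y, hy, hyq⟩ := Lsurj _ ((hmemE q).2 hq)
    refine ⟨Φ.symm y, by show Φ (Φ.symm y) ∈ L₀; rwa [Φ.apply_symm_apply], e.injective ?_⟩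
    rw [← hΦ, Φ.apply_symm_apply, hyq]
  · intro x hx y hy h
    exact Φ.injective (Linj _ hx _ hy (by rw [hΦ, hΦ, h]))
  · intro x hx y hy
    rcases Lbraid _ hx _ hy with h | h
    · exact Or.inl (Φ.injective (by rw [map_mul, map_mul]; exact h))
    · exact Or.inr (Φ.injective (by simpa only [map_mul] using h))
  · intro l hn h6 hl hc hp1
    apply Φ.injective
    rw [hΦz, map_list_prod]
    refine Lhex _ (hn.map Φ.injective) (by simp [h6]) ?_ ?_ ?_
    · intro y hy
      obtain ⟨x, hx, rfl⟩ := List.mem_map.1 hy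
      exact hl x hx
    · intro y hy y' hy'
      obtain ⟨x, hx, rfl⟩ := List.mem_map.1 hy
      obtain ⟨x', hx', rfl⟩ := List.mem_map.1 hy'
      exact (hc x hx x' hx').map Φ
    · rw [← map_list_prod, hΦ, hp1, map_one]

end Cfsg.Agent.GenA.Heptad
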